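import Cfsg.Agent.Blocks.OrbitSum
import Mathlib

/-!
# Class sums acting as scalars, `p`-locally (helper101)

* `loc` : `∑_{d ∈ D} c (d g) = ω c g` for an integer valued class function `c`: modulo `p`, on the centralizer of a
  `p`-subgroup `U`, `ω c y = ∑_{d ∈ D ∩ C(U)} c (d y)`;
* `tri_fix` : two commuting triples of involutions of two groups `S₃` acting on a vector space.
-/

set_option autoImplicit false

namespace Cfsg.Agent.H101.PQ.DLoc

open Subgroup

universe u

attribute [local instance] Classical.propDecidable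

section loc

variable {A : Type u} [Group A] {p : ℕ} [hp : Fact p.Prime] {D : Finset A} {c : A → ℤ} {ω : ℤ}

theorem loc (hD : ∀ g, ∀ d ∈ D, g * d * g⁻¹ ∈ D) (hc : ∀ g y, c (g * y * g⁻¹) = c y)
    (hs : ∀ g, ∑ d ∈ D, c (d * g) = ω * c g) (U : Subgroup A) (hU : IsPGroup p U) {y : A}
    (hy : y ∈ centralizer (U : Set A)) :
    (ω : ZMod p) * (c y : ZMod p) = ∑ d ∈ D.filter (fun d => d ∈ centralizer (U : Set A)), (c (d * y) : ZMod p) := by
  let _ : MulAction U D :=
    { smul := fun u d => ⟨(u : A) * d * (u : A)⁻¹, hD _ _ d.2⟩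
      one_smul := fun d => Subtype.ext (by
        show ((1 : U) : A) * d * ((1 : U) : A)⁻¹ = d
        simp)
      mul_smul := fun u v d => Subtype.ext (by
        show ((u * v : U) : A) * d * ((u * v : U) : A)⁻¹ = (u : A) * ((v : A) * d * (v : A)⁻¹) * (u : A)⁻¹
        simp [mul_assoc]) }
  have hsm : ∀ (u : U) (d : D), ((u • d : D) : A) = (u : A) * d * (u : A)⁻¹ := fun _ _ => rfl
  obtain ⟨a, ha⟩ := Cfsg.Agent.Blocks.OrbitSum.sum_eq_sum_fixed_add_smul hU
    (fun d : D => (c ((d : A) * y) : ZMod p)) (by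
      intro u d
      show (c (((u • d : D) : A) * y) : ZMod p) = _
      rw [hsm, ← hc (u : A)⁻¹]
      congr 2
      have h1 : (u : A) * y = y * u := mem_centralizer_iff.1 hy u u.2
      calc (u : A)⁻¹ * ((u : A) * d * (u : A)⁻¹ * y) * ((u : A)⁻¹)⁻¹ = d * ((u : A)⁻¹ * (y * u)) := by group
        _ = d * y := by rw [← h1]; group)
  have e1 : ∑ d : D, (c ((d : A) * y) : ZMod p) = (ω : ZMod p) * (c y : ZMod p) := by
    rw [Finset.sum_coe_sort D (fun d => (c (d * y) : ZMod p)), ← Int.cast_sum, hs, Int.cast_mul]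
  have e2 : p • a = 0 := by rw [nsmul_eq_mul, ZMod.natCast_self, zero_mul]
  rw [e1, e2, add_zero] at ha
  rw [ha, Finset.sum_filter, Finset.sum_filter,
    ← Finset.sum_coe_sort D (fun d => if d ∈ centralizer (U : Set A) then (c (d * y) : ZMod p) else 0)]
  refine Finset.sum_congr rfl fun d _ => ?_
  have h2 : d ∈ MulAction.fixedPoints U D ↔ (d : A) ∈ centralizer (U : Set A) := by
    rw [MulAction.mem_fixedPoints, mem_centralizer_iff]
    constructor
    · intro h u hu
      have h3 := congrArg Subtype.val (h ⟨u, hu⟩)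
      rw [hsm] at h3
      exact mul_inv_eq_iff_eq_mul.1 h3
    · intro h u
      apply Subtype.ext
      rw [hsm, mul_inv_eq_iff_eq_mul]
      exact h u u.2
  by_cases h3 : (d : A) ∈ centralizer (U : Set A)
  · rw [if_pos (h2.2 h3), if_pos h3]
  · rw [if_neg (fun h => h3 (h2.1 h)), if_neg h3]

end loc

section tri

variable {F V : Type*} [Field F] [AddCommGroup V] [Module F V]

/-- the relations of the three involutions of `S₃` -/
structure Tri (a b c : Module.End F V) : Prop where
  aa : a * a = 1
  bb : b * b = 1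
  cc : c * c = 1
  h1 : b * c = a * b
  h2 : c * a = a * b
  h3 : a * c = b * a
  h4 : c * b = b * a

variable {a b c a' b' c' : Module.End F V}

theorem Tri.sq (h : Tri a b c) : (a + b + c) * (a + b + c) = 3 * (1 + a * b + b * a) := by
  have e : (a + b + c) * (a + b + c) = a * a + b * b + c * c + (a * b + b * c + c * a) + (b * a + a * c + c * b) := by
    noncomm_ring
  rw [e, h.aa, h.bb, h.cc, h.h1, h.h2, h.h3, h.h4]
  noncomm_ring

theorem Tri.mul_r (h : Tri a b c) : (a + b + c) * (a * b) = a + b + c := by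
  have e1 : a * (a * b) = b := by rw [← mul_assoc, h.aa, one_mul]
  have e2 : b * (a * b) = c := by rw [← h.h1, ← mul_assoc, h.bb, one_mul]
  have e3 : c * (a * b) = a := by rw [← h.h2, ← mul_assoc, h.cc, one_mul]
  rw [add_mul, add_mul, e1, e2, e3]
  abel

theorem Tri.mul_r' (h : Tri a b c) : (a + b + c) * (b * a) = a + b + c := by
  have e1 : a * (b * a) = c := by rw [← h.h3, ← mul_assoc, h.aa, one_mul]
  have e2 : b * (b * a) = a := by rw [← mul_assoc, h.bb, one_mul]
  have e3 : c * (b * a) = b := by rw [← h.h4, ← mul_assoc, h.cc, one_mul]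
  rw [add_mul, add_mul, e1, e2, e3]
  abel

theorem Tri.cube (h : Tri a b c) : (a + b + c) * ((a + b + c) * (a + b + c)) = 9 * (a + b + c) := by
  rw [h.sq]
  have e : (a + b + c) * (3 * (1 + a * b + b * a)) =
      3 * ((a + b + c) + (a + b + c) * (a * b) + (a + b + c) * (b * a)) := by noncomm_ring
  rw [e, h.mul_r, h.mul_r']
  noncomm_ring

theorem smul_cancel {k : F} (hk : k ≠ 0) {v w : V} (h : k • v = k • w) : v = w := by
  have := congrArg (fun z => k⁻¹ • z) h
  simpa [smul_smul, inv_mul_cancel₀ hk] using this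

theorem Tri.fix (h : Tri a b c) (h3 : (3 : F) ≠ 0) {f : V} (hf : (a + b + c) f = (3 : F) • f) : a f = f := by
  have e1 := congrArg (fun T : Module.End F V => T f) h.sq
  have e2 : (3 : F) • (f + a (b f) + b (a f)) = (3 : F) • ((3 : F) • f) := by
    have e3 : ((a + b + c) * (a + b + c)) f = (3 : F) • ((3 : F) • f) := by
      rw [Module.End.mul_apply, hf, map_smul, hf]
    have e4 : (3 * (1 + a * b + b * a) : Module.End F V) f = (3 : F) • (f + a (b f) + b (a f)) := by
      have e5 : (3 * (1 + a * b + b * a) : Module.End F V) = (3 : F) • (1 + a * b + b * a) := by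
        rw [show (3 : F) = ((3 : ℕ) : F) by norm_num, Nat.cast_smul_eq_nsmul, nsmul_eq_mul]
        norm_num
      rw [e5]
      rfl
    rw [← e4, ← e3]
    exact e1.symm
  have e3 := smul_cancel h3 e2
  -- apply `a b`
  have ra : ∀ v, a (a v) = v := fun v => by
    have := congrArg (fun T : Module.End F V => T v) h.aa
    exact this
  have rb : ∀ v, b (b v) = v := fun v => by
    have := congrArg (fun T : Module.End F V => T v) h.bb
    exact this
  have rr : ∀ v, a (b (a (b v))) = b (a v) := fun v => by
    have h5 : (a * b) * (a * b) = b * a := by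
      nth_rewrite 2 [← h.h1]
      rw [mul_assoc, ← mul_assoc b b c, h.bb, one_mul, h.h3]
    exact congrArg (fun T : Module.End F V => T v) h5
  have e4 : a (b f) + b (a f) + f = (3 : F) • a (b f) := by
    have h5 := congrArg (fun v => a (b v)) e3
    simp only [map_add, map_smul, rr] at h5
    rw [rb, ra] at h5
    exact h5
  have e5 : a (b f) = f := by
    refine smul_cancel h3 ?_
    rw [← e3, ← e4]
    abel
  have e6 : b f = a f := by rw [← ra (b f), e5]
  have e7 : c f = a f := by
    have h5 : a * (b * a) = c := by rw [← h.h3, ← mul_assoc, h.aa, one_mul]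
    have h6 : a (b (a f)) = c f := congrArg (fun T : Module.End F V => T f) h5
    rw [← h6, ← e6, rb, e6]
  refine smul_cancel h3 ?_
  rw [← hf, LinearMap.add_apply, LinearMap.add_apply, e6, e7]
  have h8 : (3 : F) • a f = a f + a f + a f := by
    rw [show (3 : F) = 1 + 1 + 1 by norm_num, add_smul, add_smul, one_smul]
  rw [h8]

/-- two commuting triples, eigenvalue 6 -/
theorem tri_fix (h : Tri a b c) (h' : Tri a' b' c') (hcom : (a + b + c) * (a' + b' + c') = (a' + b' + c') * (a + b + c))
    (h2 : (2 : F) ≠ 0) (h3 : (3 : F) ≠ 0) {f : V}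
    (hf : (a + b + c) f + (a' + b' + c') f = (6 : F) • f) : a f = f := by
  set α := a + b + c with hα
  set β := a' + b' + c' with hβ
  have ca : ∀ v, α (α (α v)) = (9 : F) • α v := fun v => by
    have := congrArg (fun T : Module.End F V => T v) h.cube
    rw [← hα] at this
    have e5 : (9 * α : Module.End F V) = (9 : F) • α := by
      rw [show (9 : F) = ((9 : ℕ) : F) by norm_num, Nat.cast_smul_eq_nsmul, nsmul_eq_mul]
      norm_num
    rw [e5] at this
    exact this
  have cb : ∀ v, β (β (β v)) = (9 : F) • β v := fun v => by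
    have := congrArg (fun T : Module.End F V => T v) h'.cube
    rw [← hβ] at this
    have e5 : (9 * β : Module.End F V) = (9 : F) • β := by
      rw [show (9 : F) = ((9 : ℕ) : F) by norm_num, Nat.cast_smul_eq_nsmul, nsmul_eq_mul]
      norm_num
    rw [e5] at this
    exact this
  have cab : ∀ v, β (α v) = α (β v) := fun v => (congrArg (fun T : Module.End F V => T v) hcom).symm
  have b0 : β f = (6 : F) • f - α f := by rw [← hf]; abel
  have b1 : β (α f) = (6 : F) • α f - α (α f) := by rw [cab, b0, map_sub, map_smul]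
  have b2 : β (α (α f)) = (6 : F) • α (α f) - (9 : F) • α f := by rw [cab, b1, map_sub, map_smul, ca]
  have k1 := cb f
  rw [b0, map_sub, map_smul, b0, b1, map_sub, map_smul, map_sub, map_smul, map_sub, map_smul, b0, b1, b2] at k1
  have k2 : (18 : F) • ((9 : F) • f) = (18 : F) • ((6 : F) • α f - α (α f)) := by
    rw [← sub_eq_zero] at k1 ⊢
    rw [← k1]
    module
  have h18 : (18 : F) ≠ 0 := by
    rw [show (18 : F) = 2 * (3 * 3) by norm_num]
    exact mul_ne_zero h2 (mul_ne_zero h3 h3)
  have k3 := smul_cancel h18 k2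
  have k4 := congrArg (fun v => α v) k3
  simp only [map_sub, map_smul, ca] at k4
  have k5 : (18 : F) • α f = (18 : F) • ((3 : F) • f) := by
    have k6 : α (α f) = (6 : F) • α f - (9 : F) • f := by rw [k3]; abel
    rw [k6] at k4
    rw [← sub_eq_zero] at k4 ⊢
    rw [← neg_eq_zero, ← k4]
    module
  exact h.fix h3 (smul_cancel h18 k5)

end tri

end Cfsg.Agent.H101.PQ.DLoc
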