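import Cfsg.Agent.H101.PQ.PairChar
import Cfsg.Agent.H30.FiE.DegE

/-!
# Characters of `Fi24` with the value of the sum of the transpositions (helper101)

`exists_b`, `exists_c`, `exists_e` : rational valued irreducible characters of `Fi24` of degrees 159402880, 112168056,
3208653525; the sum of the 306936 transpositions acts as 3132, 5832, 3672.
-/

set_option autoImplicit false
set_option maxRecDepth 100000

namespace Cfsg.Agent.H101.PQ.FiTFChar

open Cfsg Cfsg.Agent.H30.FiE Cfsg.Agent.H30.PairFn Cfsg.Agent.H30.PairFn.Ctx Cfsg.Agent.H101.PQ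
open Cfsg.Spor (Fi24)
open scoped ComplexConjugate

attribute [local instance] Classical.propDecidable

theorem sq_PT {x : ℕ} (hx : x ∈ X.PT) : X.t x * X.t x = 1 := Cfsg.Agent.H30.FiE.tr.sq hx

theorem rat_fn (w : ℕ → ℚ) (c d : ℕ) : ∃ r : ℚ, fn X X.cl (fun k => ((w k : ℚ) : ℂ)) c d = r := by
  by_cases h : X.com c d
  · exact ⟨w (X.cl c d), by rw [Ctx.fn_of h]⟩
  · exact ⟨0, by
      have e1 : fn X X.cl (fun k => ((w k : ℚ) : ℂ)) c d = 0 := if_neg h
      rw [e1, Rat.cast_zero]⟩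

theorem vb_C : let w : ℕ → ℂ := fun k => ((vb k : ℚ) : ℂ)
    ∀ c d, X.com c d → X.CC (fn X X.cl w) c d = 3132 * fn X X.cl w c d := by
  intro w
  have hv := orbs.isFn w
  have hk := orbs.kInv w
  have hw : ∀ x y, X.com x y → fn X X.cl w x y = w (X.cl x y) := fun x y h => if_pos h
  set ψ : ℕ → ℕ → ℂ := fun c d => X.CC (fn X X.cl w) c d - 3132 * fn X X.cl w c d with hψ
  have hF : IsFn X ψ := by
    refine ⟨fun c d => ?_, fun c d h => ?_⟩
    · show _ - _ = _ - _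
      rw [hv.CC.symm, hv.symm]
    · show _ - _ = (0 : ℂ)
      rw [hv.CC.zero c d h, hv.zero c d h]; ring
  have hK : X.KInv ψ := by
    intro g hg c d
    show _ - _ = _ - _
    rw [hk.CC g hg, hk g hg]
  have hA0 : ∀ c d, X.com c d → X.A1 (fn X X.cl w) c d = (306) * fn X X.cl w c d := by
    intro c d h
    rw [A1_val hk hw h, vb_A (cl_mem h), hw c d h]
  have hA : ∀ c d, X.com c d → X.A1 ψ c d = (306) * ψ c d := by
    intro c d h
    have e : ψ = fun c d => X.CC (fn X X.cl w) c d + (fun c d => (-3132) * fn X X.cl w c d) c d := by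
      funext c d; show _ - _ = _ + _; ring
    rw [e, Ctx.A1_add, Ctx.A1_mul, Ctx.A1_CC, hA0 c d h]
    have e2 : X.CC (X.A1 (fn X X.cl w)) c d = (306) * X.CC (fn X X.cl w) c d := by
      show ∑ x ∈ X.PT, X.A1 (fn X X.cl w) (X.ρ (X.t x) c) (X.ρ (X.t x) d) = _ * ∑ x ∈ X.PT, _
      rw [Finset.mul_sum]
      exact Finset.sum_congr rfl fun x _ => hA0 _ _ (X.inv _ h)
    rw [e2]
    ring
  obtain ⟨β, hβ⟩ := orbs.exists_beta hF hK
  have z3510 : β 3510 = 0 := by
    have hcd := chkCl_spec cl_02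
    rw [← hcd.2, ← hβ _ _ hcd.1]
    show X.CC (fn X X.cl w) 0 136 - 3132 * fn X X.cl w 0 136 = 0
    rw [CC_0 hv hk hw, hw _ _ hcd.1, hcd.2]
    show 3512 * ((vb 3510 : ℚ) : ℂ) + 56320 * ((vb 351 : ℚ) : ℂ) + 247104 * ((vb 36360 : ℚ) : ℂ) - 3132 * ((vb 3510 : ℚ) : ℂ) = 0
    simp only [vb_351, vb_3510, vb_36360]
    norm_num
  intro c d h
  have h1 := vb_lin (fun k hk => eqA hK hβ hA hk) (cl_mem h)
  rw [z3510, zero_mul, ← hβ c d h] at h1
  exact sub_eq_zero.1 h1

/-- the degree 159402880 -/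
theorem exists_b : ∃ χ : IrrCharacter Fi24, charDegree (χ : Fi24 → ℂ) = 159402880 ∧
    (∀ g, ∑ x ∈ X.PT, (χ : Fi24 → ℂ) (tp x * g) = 3132 * (χ : Fi24 → ℂ) g) ∧
    ∀ g, ∃ r : ℚ, (χ : Fi24 → ℂ) g = r := by
  have : Finite Fi24 := Cfsg.Agent.R08.FiTwentyFour.finite_Fi24
  set w : ℕ → ℂ := fun k => ((vb k : ℚ) : ℂ) with hw
  have hv := orbs.isFn w
  have hab := (chkCl_spec cl_02)
  refine PairChar.exists_char (X := X) (P := True) trivial (τ := (306)) (ω := 3132) (v := fn X X.cl w) hv ?_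
    (fun x hx => sq_PT hx) ?_ (fun _ => vb_C) ?_ (rat_fn vb) (n2 := 9720970056) (s2 := 63423/1040) ?_ sum_one ?_
  · show fn X X.cl w 0 136 = 1
    rw [Ctx.fn_of hab.1, hab.2, hw]
    simp only [vb_3510]
    norm_num
  · intro c d h
    rw [A1_val (orbs.kInv w) (fun x y h => if_pos h) h, vb_A (cl_mem h), Ctx.fn_of h]
  · intro ψ hψ hK h1 _ c d h
    obtain ⟨β, hβ⟩ := orbs.exists_beta hψ hK
    rw [hβ c d h, vb_lin (fun k hk => eqA hK hβ h1 hk) (cl_mem h), Ctx.fn_of h]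
    show _ = ψ 0 136 * _
    rw [hβ _ _ hab.1, hab.2]
  · have e : ∀ x y, fn X X.cl w x y * conj (fn X X.cl w x y) = fn X X.cl (fun k => ((vb k ^ 2 : ℚ) : ℂ)) x y := by
      intro x y
      by_cases h : X.com x y
      · rw [Ctx.fn_of h, Ctx.fn_of h, hw]
        simp only [map_ratCast]
        push_cast
        ring
      · have e1 : fn X X.cl w x y = 0 := if_neg h
        have e2 : fn X X.cl (fun k => ((vb k ^ 2 : ℚ) : ℂ)) x y = 0 := if_neg h
        rw [e1, e2, zero_mul]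
    simp only [e]
    rw [sum_fn]
    simp only [vb_3510, vb_693, vb_351, vb_4180, vb_8126, vb_12063, vb_16063, vb_16108, vb_16000, vb_24036, vb_36360, vb_36072, vb_36036]
    norm_num
  · norm_num

/-- the degree 112168056 -/
theorem exists_c : ∃ χ : IrrCharacter Fi24, charDegree (χ : Fi24 → ℂ) = 112168056 ∧
    (∀ g, ∑ x ∈ X.PT, (χ : Fi24 → ℂ) (tp x * g) = 5832 * (χ : Fi24 → ℂ) g) ∧
    ∀ g, ∃ r : ℚ, (χ : Fi24 → ℂ) g = r := by
  have : Finite Fi24 := Cfsg.Agent.R08.FiTwentyFour.finite_Fi24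
  set w : ℕ → ℂ := fun k => ((vc k : ℚ) : ℂ) with hw
  have hv := orbs.isFn w
  have hab := (chkCl_spec cl_02)
  refine PairChar.exists_char (X := X) (P := True) trivial (τ := (-18)) (ω := 5832) (v := fn X X.cl w) hv ?_
    (fun x hx => sq_PT hx) ?_ (fun _ => vc_C) ?_ (rat_fn vc) (n2 := 9720970056) (s2 := 12393/143) ?_ sum_one ?_
  · show fn X X.cl w 0 136 = 1
    rw [Ctx.fn_of hab.1, hab.2, hw]
    simp only [vc_3510]
    norm_num
  · intro c d h
    rw [A1_val (orbs.kInv w) (fun x y h => if_pos h) h, vc_A (cl_mem h), Ctx.fn_of h]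
  · intro ψ hψ hK h1 h2 c d h
    obtain ⟨β, hβ⟩ := orbs.exists_beta hψ hK
    have k0 := h2 trivial _ _ (chkCl_spec cl_02).1
    have k3 := h2 trivial _ _ (chkCl_spec cl_10).1
    have k7 := h2 trivial _ _ (chkCl_spec cl_20).1
    have k10 := h2 trivial _ _ (chkCl_spec cl_30).1
    rw [CC_0 hψ hK hβ, hβ _ _ (chkCl_spec cl_02).1, (chkCl_spec cl_02).2] at k0
    rw [CC_3 hψ hK hβ, hβ _ _ (chkCl_spec cl_10).1, (chkCl_spec cl_10).2] at k3
    rw [CC_7 hψ hK hβ, hβ _ _ (chkCl_spec cl_20).1, (chkCl_spec cl_20).2] at k7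
    rw [CC_10 hψ hK hβ, hβ _ _ (chkCl_spec cl_30).1, (chkCl_spec cl_30).2] at k10
    rw [hβ c d h, vc_lin (fun k hk => eqA hK hβ h1 hk) (by linear_combination k0) (by linear_combination k3)
      (by linear_combination k7) (by linear_combination k10) (cl_mem h), Ctx.fn_of h]
    show _ = ψ 0 136 * _
    rw [hβ _ _ hab.1, hab.2]
  · have e : ∀ x y, fn X X.cl w x y * conj (fn X X.cl w x y) = fn X X.cl (fun k => ((vc k ^ 2 : ℚ) : ℂ)) x y := by
      intro x y
      by_cases h : X.com x y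
      · rw [Ctx.fn_of h, Ctx.fn_of h, hw]
        simp only [map_ratCast]
        push_cast
        ring
      · have e1 : fn X X.cl w x y = 0 := if_neg h
        have e2 : fn X X.cl (fun k => ((vc k ^ 2 : ℚ) : ℂ)) x y = 0 := if_neg h
        rw [e1, e2, zero_mul]
    simp only [e]
    rw [sum_fn]
    simp only [vc_3510, vc_693, vc_351, vc_4180, vc_8126, vc_12063, vc_16063, vc_16108, vc_16000, vc_24036, vc_36360, vc_36072, vc_36036]
    norm_num
  · norm_num

/-- the degree 3208653525 -/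
theorem exists_e : ∃ χ : IrrCharacter Fi24, charDegree (χ : Fi24 → ℂ) = 3208653525 ∧
    (∀ g, ∑ x ∈ X.PT, (χ : Fi24 → ℂ) (tp x * g) = 3672 * (χ : Fi24 → ℂ) g) ∧
    ∀ g, ∃ r : ℚ, (χ : Fi24 → ℂ) g = r := by
  have : Finite Fi24 := Cfsg.Agent.R08.FiTwentyFour.finite_Fi24
  set w : ℕ → ℂ := fun k => ((ve k : ℚ) : ℂ) with hw
  have hv := orbs.isFn w
  have hab := (chkCl_spec cl_02)
  refine PairChar.exists_char (X := X) (P := True) trivial (τ := (-18)) (ω := 3672) (v := fn X X.cl w) hv ?_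
    (fun x hx => sq_PT hx) ?_ (fun _ => ve_C) ?_ (rat_fn ve) (n2 := 9720970056) (s2 := 5832/1925) ?_ sum_one ?_
  · show fn X X.cl w 0 136 = 1
    rw [Ctx.fn_of hab.1, hab.2, hw]
    simp only [ve_3510]
    norm_num
  · intro c d h
    rw [A1_val (orbs.kInv w) (fun x y h => if_pos h) h, ve_A (cl_mem h), Ctx.fn_of h]
  · intro ψ hψ hK h1 h2 c d h
    obtain ⟨β, hβ⟩ := orbs.exists_beta hψ hK
    have k0 := h2 trivial _ _ (chkCl_spec cl_02).1
    have k3 := h2 trivial _ _ (chkCl_spec cl_10).1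
    have k7 := h2 trivial _ _ (chkCl_spec cl_20).1
    have k10 := h2 trivial _ _ (chkCl_spec cl_30).1
    rw [CC_0 hψ hK hβ, hβ _ _ (chkCl_spec cl_02).1, (chkCl_spec cl_02).2] at k0
    rw [CC_3 hψ hK hβ, hβ _ _ (chkCl_spec cl_10).1, (chkCl_spec cl_10).2] at k3
    rw [CC_7 hψ hK hβ, hβ _ _ (chkCl_spec cl_20).1, (chkCl_spec cl_20).2] at k7
    rw [CC_10 hψ hK hβ, hβ _ _ (chkCl_spec cl_30).1, (chkCl_spec cl_30).2] at k10
    rw [hβ c d h, ve_lin (fun k hk => eqA hK hβ h1 hk) (by linear_combination k0) (by linear_combination k3)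
      (by linear_combination k7) (by linear_combination k10) (cl_mem h), Ctx.fn_of h]
    show _ = ψ 0 136 * _
    rw [hβ _ _ hab.1, hab.2]
  · have e : ∀ x y, fn X X.cl w x y * conj (fn X X.cl w x y) = fn X X.cl (fun k => ((ve k ^ 2 : ℚ) : ℂ)) x y := by
      intro x y
      by_cases h : X.com x y
      · rw [Ctx.fn_of h, Ctx.fn_of h, hw]
        simp only [map_ratCast]
        push_cast
        ring
      · have e1 : fn X X.cl w x y = 0 := if_neg h
        have e2 : fn X X.cl (fun k => ((ve k ^ 2 : ℚ) : ℂ)) x y = 0 := if_neg h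
        rw [e1, e2, zero_mul]
    simp only [e]
    rw [sum_fn]
    simp only [ve_3510, ve_693, ve_351, ve_4180, ve_8126, ve_12063, ve_16063, ve_16108, ve_16000, ve_24036, ve_36360, ve_36072, ve_36036]
    norm_num
  · norm_num

end Cfsg.Agent.H101.PQ.FiTFChar
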