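import Cfsg.Agent.H101.PQ.MTwo
import Cfsg.Agent.H513.PQ.HN
import Cfsg.Agent.H800.ME.Final
import Cfsg.Agent.H806.PQ.HePQ
import Cfsg.Agent.H961.SevM

/-!
# The Monster: `¬ PQ 5 q`, `¬ PQ 7 q` (helper101, for S4612)

`C(x)/⟨x⟩` is `HN` for an element `x` of order 5 and `He` for an element `x` of order 7.
-/

set_option autoImplicit false
set_option maxRecDepth 100000

open Cfsg Cfsg.Agent

namespace Cfsg.Agent.H101.PQ

open Cfsg.Agent.H317.PQ Cfsg.Agent.H358.A3 Subgroup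
open Cfsg.Agent.LThreeMB (fr XX Zx self_mem_center)

universe u v

/-- `PQ p q` passes to `C(x)/⟨x⟩` -/
theorem PQ_XX {G : Type u} [Group G] [Finite G] {p q : ℕ} (hp : p.Prime) (hq : q.Prime) (hpq : p ≠ q) (h : PQ p q G)
    {x : G} (hx : orderOf x = p) : PQ p q (XX x) := by
  have h1 := Cfsg.Agent.H358.A3.PQ.centralizer hp hq hpq h (x := x) ⟨1, by rw [hx, pow_one]⟩
  refine PQ.map_central hp hq hpq h1 (QuotientGroup.mk' (Zx x)) (QuotientGroup.mk'_surjective _) ?_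
  rw [QuotientGroup.ker_mk']
  exact zpowers_le.2 (self_mem_center x)

theorem exists_hn : ∃ c : ↥MonsterX.InstData.M.G, orderOf c = 5 ∧ Spor.IsoHN (XX c) := by
  obtain ⟨c, hc, hf⟩ := MFive.KPair.exists_order BpSpor.MBigModel.chart (by norm_num : Nat.Prime 5) (by decide)
    H800.ME.CoFacts.orderOf_f
  exact ⟨(c : _), by rw [Subgroup.orderOf_coe, hc], MFiveHN.Closed.hnEight BpSpor.MBigModel.chart c hc
    (by rw [hf]; exact H800.ME.CoFacts.fr_f1)⟩

theorem exists_he : ∃ c : ↥MonsterX.InstData.M.G, orderOf c = 7 ∧ Spor.IsoHe (XX c) := by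
  obtain ⟨r, hr, hfr⟩ := BpRankZero.MRow.exists_six
  exact ⟨(r : _), by rw [Subgroup.orderOf_coe, hr], CpAutMSeven.ZeroComps.heSix r hr hfr⟩

theorem not_PQ_five_model {q : ℕ} (hq : q.Prime) (hq5 : q ≠ 5) (hd : q ∣ 126000) :
    ¬ PQ 5 q ↥MonsterX.InstData.M.G := by
  intro h
  have hfin := MFive.Row.finite_model
  obtain ⟨c, hc, hN⟩ := exists_hn
  exact H513.PQ.not_PQ_hn hN hq hq5 hd (PQ_XX (by norm_num) hq hq5.symm h hc)

theorem not_PQ_seven_model {q : ℕ} (hq : q.Prime) (hq7 : q ≠ 7) (hd : q ∣ 168) :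
    ¬ PQ 7 q ↥MonsterX.InstData.M.G := by
  intro h
  have hfin := MFive.Row.finite_model
  obtain ⟨c, hc, hN⟩ := exists_he
  exact H806.PQ.HePQ.not_PQ_he hN hq hq7 hd (PQ_XX (by norm_num) hq hq7.symm h hc)

/-- **`¬ PQ 5 q M`** for `q = 2, 3, 7`. -/
theorem not_PQ_five_m {S : Type u} [Group S] (h : Spor.IsoM S) {q : ℕ} (hq : q = 2 ∨ q = 3 ∨ q = 7) : ¬ PQ 5 q S := by
  obtain ⟨e⟩ := h
  obtain ⟨e'⟩ := MonsterP.Equiv.equiv
  have hfin := finite_mon
  have : Finite S := Finite.of_equiv _ e.symm.toEquiv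
  intro hP
  have h1 : PQ 5 q ↥MonsterX.InstData.M.G := PQ.of_equiv (e.trans e') hP
  rcases hq with rfl | rfl | rfl
  all_goals
    refine not_PQ_five_model (by norm_num) (by norm_num) ?_ h1
    norm_num

/-- **`¬ PQ 7 q M`** for `q = 2, 3`. -/
theorem not_PQ_seven_m {S : Type u} [Group S] (h : Spor.IsoM S) {q : ℕ} (hq : q = 2 ∨ q = 3) : ¬ PQ 7 q S := by
  obtain ⟨e⟩ := h
  obtain ⟨e'⟩ := MonsterP.Equiv.equiv
  have hfin := finite_mon
  have : Finite S := Finite.of_equiv _ e.symm.toEquiv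
  intro hP
  have h1 : PQ 7 q ↥MonsterX.InstData.M.G := PQ.of_equiv (e.trans e') hP
  rcases hq with rfl | rfl
  all_goals
    refine not_PQ_seven_model (by norm_num) (by norm_num) ?_ h1
    norm_num

theorem not_same_five_m {S : Type u} [Group S] (h : Spor.IsoM S) {q : ℕ} (hq : q = 2 ∨ q = 3 ∨ q = 7) :
    ¬ Same 5 q S := by
  have hfin := finite_mon
  have : Finite S := Finite.of_equiv _ h.some.symm.toEquiv
  refine fun hS => not_PQ_five_m h hq (PQ.of_same ?_ hS)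
  rcases hq with rfl | rfl | rfl <;> norm_num

theorem not_same_seven_m {S : Type u} [Group S] (h : Spor.IsoM S) {q : ℕ} (hq : q = 2 ∨ q = 3) :
    ¬ Same 7 q S := by
  have hfin := finite_mon
  have : Finite S := Finite.of_equiv _ h.some.symm.toEquiv
  refine fun hS => not_PQ_seven_m h hq (PQ.of_same ?_ hS)
  rcases hq with rfl | rfl <;> norm_num

/-- the pairs of primes at most 7 -/
theorem m_small {S : Type u} [Group S] (h : Spor.IsoM S) :
    ¬ Same 2 3 S ∧ ¬ Same 2 5 S ∧ ¬ Same 2 7 S ∧ ¬ Same 3 5 S ∧ ¬ Same 3 7 S ∧ ¬ Same 5 7 S :=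
  ⟨not_same_two_m h (by simp), not_same_two_m h (by simp), not_same_two_m h (by simp),
    fun hS => not_same_five_m h (q := 3) (by simp) hS.symm, fun hS => not_same_seven_m h (q := 3) (by simp) hS.symm,
    not_same_five_m h (by simp)⟩

end Cfsg.Agent.H101.PQ
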