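import Cfsg.Agent.H426.PQ.Hecke
import Cfsg.Agent.H816.MDeg
import Cfsg.Agent.MonsterP.Equiv

/-!
# The Monster: members of the principal blocks by the Hecke test (helper101, for S4612)
-/

set_option autoImplicit false
set_option maxRecDepth 100000

namespace Cfsg.Agent.H101.PQ.MHecke

open Cfsg Cfsg.Agent Cfsg.Agent.MonsterX.InstData Cfsg.Agent.Characters.Core
open Cfsg.Agent.H816 Cfsg.Agent.H816.MEigL Cfsg.Agent.H816.MSch Cfsg.Agent.H816.MDeg Cfsg.Agent.H816.IMEig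
open Cfsg.Agent.H317.PQ

universe u

variable {P : Fin 9 → Fin 9 → ℤ} {θ D : ℤ} {ω : Fin 9 → ℤ} {R : Fin 9 → Fin 9 → ℤ} {r : Fin 9 → ℤ} {f p : ℕ}

/-- **The Hecke test for the axes.** -/
theorem exists_mem (h : Dat MSch.t MSch.k P 2 θ D ω R r 97239461142009186000 f) (hp : p.Prime)
    (hd : ∀ u : Fin 9, (p * D : ℤ) ∣ (MSch.k u : ℤ) * (ω u - D)) :
    ∃ χ : IrrCharacter ↥M.G, charDegree (χ : ↥M.G → ℂ) = f ∧ χ ∈ B0 p ↥M.G := by
  classical
  have := finite_G
  have := Fintype.ofFinite XT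
  have hE := h.toEig
  have hd' := h.toDeg
  rw [← c_b1] at hE
  refine Cfsg.Agent.H426.PQ.exists_mem hp isCol MSch.tt_eq hE (by rw [card_XT]; exact hd') fun u => ?_
  obtain ⟨z, hz⟩ := hd u
  have hD : (D : ℂ) ≠ 0 := by exact_mod_cast h.hD
  refine ⟨z, ?_⟩
  have hk : ((∑ w, MSch.t u w : ℕ) : ℂ) = (MSch.k u : ℂ) := h.hkC u
  rw [hk]
  have h1 := congrArg (fun x : ℤ => (x : ℂ)) hz
  push_cast at h1
  field_simp
  linear_combination h1

instance finite_MG : Finite ↥M.G := finite_G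

theorem card_G : Nat.card ↥M.G = 808017424794512875886459904961710757005754368000000000 :=
  MonsterP.EquivOf.isM_model.2

theorem mem_2_196883 : ∃ χ : IrrCharacter ↥M.G, charDegree (χ : ↥M.G → ℂ) = 196883 ∧ χ ∈ B0 2 ↥M.G :=
  exists_mem dat_196883 (by norm_num) (by decide +kernel)

theorem mem_2_842609326 : ∃ χ : IrrCharacter ↥M.G, charDegree (χ : ↥M.G → ℂ) = 842609326 ∧ χ ∈ B0 2 ↥M.G :=
  exists_mem dat_842609326 (by norm_num) (by decide +kernel)

theorem mem_2_18538750076 : ∃ χ : IrrCharacter ↥M.G, charDegree (χ : ↥M.G → ℂ) = 18538750076 ∧ χ ∈ B0 2 ↥M.G :=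
  exists_mem dat_18538750076 (by norm_num) (by decide +kernel)

theorem mem_2_36173193327999 : ∃ χ : IrrCharacter ↥M.G, charDegree (χ : ↥M.G → ℂ) = 36173193327999 ∧ χ ∈ B0 2 ↥M.G :=
  exists_mem dat_36173193327999 (by norm_num) (by decide +kernel)

theorem mem_2_47377503606648784400 : ∃ χ : IrrCharacter ↥M.G, charDegree (χ : ↥M.G → ℂ) = 47377503606648784400 ∧ χ ∈ B0 2 ↥M.G :=
  exists_mem dat_47377503606648784400 (by norm_num) (by decide +kernel)

theorem mem_2_49609712911192813665 : ∃ χ : IrrCharacter ↥M.G, charDegree (χ : ↥M.G → ℂ) = 49609712911192813665 ∧ χ ∈ B0 2 ↥M.G :=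
  exists_mem dat_49609712911192813665 (by norm_num) (by decide +kernel)

theorem mem_3_196883 : ∃ χ : IrrCharacter ↥M.G, charDegree (χ : ↥M.G → ℂ) = 196883 ∧ χ ∈ B0 3 ↥M.G :=
  exists_mem dat_196883 (by norm_num) (by decide +kernel)

theorem mem_3_842609326 : ∃ χ : IrrCharacter ↥M.G, charDegree (χ : ↥M.G → ℂ) = 842609326 ∧ χ ∈ B0 3 ↥M.G :=
  exists_mem dat_842609326 (by norm_num) (by decide +kernel)

theorem mem_3_18538750076 : ∃ χ : IrrCharacter ↥M.G, charDegree (χ : ↥M.G → ℂ) = 18538750076 ∧ χ ∈ B0 3 ↥M.G :=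
  exists_mem dat_18538750076 (by norm_num) (by decide +kernel)

theorem mem_3_36173193327999 : ∃ χ : IrrCharacter ↥M.G, charDegree (χ : ↥M.G → ℂ) = 36173193327999 ∧ χ ∈ B0 3 ↥M.G :=
  exists_mem dat_36173193327999 (by norm_num) (by decide +kernel)

theorem mem_3_47377503606648784400 : ∃ χ : IrrCharacter ↥M.G, charDegree (χ : ↥M.G → ℂ) = 47377503606648784400 ∧ χ ∈ B0 3 ↥M.G :=
  exists_mem dat_47377503606648784400 (by norm_num) (by decide +kernel)

theorem mem_3_49609712911192813665 : ∃ χ : IrrCharacter ↥M.G, charDegree (χ : ↥M.G → ℂ) = 49609712911192813665 ∧ χ ∈ B0 3 ↥M.G :=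
  exists_mem dat_49609712911192813665 (by norm_num) (by decide +kernel)

theorem mem_5_196883 : ∃ χ : IrrCharacter ↥M.G, charDegree (χ : ↥M.G → ℂ) = 196883 ∧ χ ∈ B0 5 ↥M.G :=
  exists_mem dat_196883 (by norm_num) (by decide +kernel)

theorem mem_5_842609326 : ∃ χ : IrrCharacter ↥M.G, charDegree (χ : ↥M.G → ℂ) = 842609326 ∧ χ ∈ B0 5 ↥M.G :=
  exists_mem dat_842609326 (by norm_num) (by decide +kernel)

theorem mem_5_18538750076 : ∃ χ : IrrCharacter ↥M.G, charDegree (χ : ↥M.G → ℂ) = 18538750076 ∧ χ ∈ B0 5 ↥M.G :=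
  exists_mem dat_18538750076 (by norm_num) (by decide +kernel)

theorem mem_5_36173193327999 : ∃ χ : IrrCharacter ↥M.G, charDegree (χ : ↥M.G → ℂ) = 36173193327999 ∧ χ ∈ B0 5 ↥M.G :=
  exists_mem dat_36173193327999 (by norm_num) (by decide +kernel)

theorem mem_5_47377503606648784400 : ∃ χ : IrrCharacter ↥M.G, charDegree (χ : ↥M.G → ℂ) = 47377503606648784400 ∧ χ ∈ B0 5 ↥M.G :=
  exists_mem dat_47377503606648784400 (by norm_num) (by decide +kernel)

theorem mem_5_49609712911192813665 : ∃ χ : IrrCharacter ↥M.G, charDegree (χ : ↥M.G → ℂ) = 49609712911192813665 ∧ χ ∈ B0 5 ↥M.G :=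
  exists_mem dat_49609712911192813665 (by norm_num) (by decide +kernel)

theorem mem_7_196883 : ∃ χ : IrrCharacter ↥M.G, charDegree (χ : ↥M.G → ℂ) = 196883 ∧ χ ∈ B0 7 ↥M.G :=
  exists_mem dat_196883 (by norm_num) (by decide +kernel)

theorem mem_7_18538750076 : ∃ χ : IrrCharacter ↥M.G, charDegree (χ : ↥M.G → ℂ) = 18538750076 ∧ χ ∈ B0 7 ↥M.G :=
  exists_mem dat_18538750076 (by norm_num) (by decide +kernel)

theorem mem_7_1109944460516150 : ∃ χ : IrrCharacter ↥M.G, charDegree (χ : ↥M.G → ℂ) = 1109944460516150 ∧ χ ∈ B0 7 ↥M.G :=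
  exists_mem dat_1109944460516150 (by norm_num) (by decide +kernel)

theorem mem_7_47377503606648784400 : ∃ χ : IrrCharacter ↥M.G, charDegree (χ : ↥M.G → ℂ) = 47377503606648784400 ∧ χ ∈ B0 7 ↥M.G :=
  exists_mem dat_47377503606648784400 (by norm_num) (by decide +kernel)

theorem mem_7_49609712911192813665 : ∃ χ : IrrCharacter ↥M.G, charDegree (χ : ↥M.G → ℂ) = 49609712911192813665 ∧ χ ∈ B0 7 ↥M.G :=
  exists_mem dat_49609712911192813665 (by norm_num) (by decide +kernel)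

theorem mem_11_251098487132187500 : ∃ χ : IrrCharacter ↥M.G, charDegree (χ : ↥M.G → ℂ) = 251098487132187500 ∧ χ ∈ B0 11 ↥M.G :=
  exists_mem dat_251098487132187500 (by norm_num) (by decide +kernel)

theorem mem_11_47377503606648784400 : ∃ χ : IrrCharacter ↥M.G, charDegree (χ : ↥M.G → ℂ) = 47377503606648784400 ∧ χ ∈ B0 11 ↥M.G :=
  exists_mem dat_47377503606648784400 (by norm_num) (by decide +kernel)

theorem mem_13_1109944460516150 : ∃ χ : IrrCharacter ↥M.G, charDegree (χ : ↥M.G → ℂ) = 1109944460516150 ∧ χ ∈ B0 13 ↥M.G :=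
  exists_mem dat_1109944460516150 (by norm_num) (by decide +kernel)

theorem mem_29_251098487132187500 : ∃ χ : IrrCharacter ↥M.G, charDegree (χ : ↥M.G → ℂ) = 251098487132187500 ∧ χ ∈ B0 29 ↥M.G :=
  exists_mem dat_251098487132187500 (by norm_num) (by decide +kernel)

theorem mem_41_36173193327999 : ∃ χ : IrrCharacter ↥M.G, charDegree (χ : ↥M.G → ℂ) = 36173193327999 ∧ χ ∈ B0 41 ↥M.G :=
  exists_mem dat_36173193327999 (by norm_num) (by decide +kernel)

theorem mem_59_18538750076 : ∃ χ : IrrCharacter ↥M.G, charDegree (χ : ↥M.G → ℂ) = 18538750076 ∧ χ ∈ B0 59 ↥M.G :=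
  exists_mem dat_18538750076 (by norm_num) (by decide +kernel)

theorem mem_71_842609326 : ∃ χ : IrrCharacter ↥M.G, charDegree (χ : ↥M.G → ℂ) = 842609326 ∧ χ ∈ B0 71 ↥M.G :=
  exists_mem dat_842609326 (by norm_num) (by decide +kernel)

theorem m_2_11 : ¬ Same 2 11 ↥M.G :=
  Cfsg.Agent.H426.PQ.not_same (k := 2) (by norm_num) (by rw [card_G]; norm_num) (by rw [card_G]; norm_num)
    (by norm_num) mem_2_49609712911192813665

theorem m_2_13 : ¬ Same 2 13 ↥M.G :=
  Cfsg.Agent.H426.PQ.not_same (k := 3) (by norm_num) (by rw [card_G]; norm_num) (by rw [card_G]; norm_num)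
    (by norm_num) mem_2_47377503606648784400

theorem m_2_17 : ¬ Same 2 17 ↥M.G :=
  Cfsg.Agent.H426.PQ.not_same (k := 1) (by norm_num) (by rw [card_G]; norm_num) (by rw [card_G]; norm_num)
    (by norm_num) mem_2_36173193327999

theorem m_2_19 : ¬ Same 2 19 ↥M.G :=
  Cfsg.Agent.H426.PQ.not_same (k := 1) (by norm_num) (by rw [card_G]; norm_num) (by rw [card_G]; norm_num)
    (by norm_num) mem_2_36173193327999

theorem m_2_23 : ¬ Same 2 23 ↥M.G :=
  Cfsg.Agent.H426.PQ.not_same (k := 1) (by norm_num) (by rw [card_G]; norm_num) (by rw [card_G]; norm_num)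
    (by norm_num) mem_2_18538750076

theorem m_2_29 : ¬ Same 2 29 ↥M.G :=
  Cfsg.Agent.H426.PQ.not_same (k := 1) (by norm_num) (by rw [card_G]; norm_num) (by rw [card_G]; norm_num)
    (by norm_num) mem_2_842609326

theorem m_2_31 : ¬ Same 2 31 ↥M.G :=
  Cfsg.Agent.H426.PQ.not_same (k := 1) (by norm_num) (by rw [card_G]; norm_num) (by rw [card_G]; norm_num)
    (by norm_num) mem_2_842609326

theorem m_2_41 : ¬ Same 2 41 ↥M.G :=
  Cfsg.Agent.H426.PQ.not_same (k := 1) (by norm_num) (by rw [card_G]; norm_num) (by rw [card_G]; norm_num)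
    (by norm_num) mem_2_18538750076

theorem m_2_47 : ¬ Same 2 47 ↥M.G :=
  Cfsg.Agent.H426.PQ.not_same (k := 1) (by norm_num) (by rw [card_G]; norm_num) (by rw [card_G]; norm_num)
    (by norm_num) mem_2_196883

theorem m_2_59 : ¬ Same 2 59 ↥M.G :=
  Cfsg.Agent.H426.PQ.not_same (k := 1) (by norm_num) (by rw [card_G]; norm_num) (by rw [card_G]; norm_num)
    (by norm_num) mem_2_196883

theorem m_2_71 : ¬ Same 2 71 ↥M.G :=
  Cfsg.Agent.H426.PQ.not_same (k := 1) (by norm_num) (by rw [card_G]; norm_num) (by rw [card_G]; norm_num)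
    (by norm_num) mem_2_196883

theorem m_3_11 : ¬ Same 3 11 ↥M.G :=
  Cfsg.Agent.H426.PQ.not_same (k := 2) (by norm_num) (by rw [card_G]; norm_num) (by rw [card_G]; norm_num)
    (by norm_num) mem_3_49609712911192813665

theorem m_3_13 : ¬ Same 3 13 ↥M.G :=
  Cfsg.Agent.H426.PQ.not_same (k := 3) (by norm_num) (by rw [card_G]; norm_num) (by rw [card_G]; norm_num)
    (by norm_num) mem_3_47377503606648784400

theorem m_3_17 : ¬ Same 3 17 ↥M.G :=
  Cfsg.Agent.H426.PQ.not_same (k := 1) (by norm_num) (by rw [card_G]; norm_num) (by rw [card_G]; norm_num)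
    (by norm_num) mem_3_36173193327999

theorem m_3_19 : ¬ Same 3 19 ↥M.G :=
  Cfsg.Agent.H426.PQ.not_same (k := 1) (by norm_num) (by rw [card_G]; norm_num) (by rw [card_G]; norm_num)
    (by norm_num) mem_3_36173193327999

theorem m_3_23 : ¬ Same 3 23 ↥M.G :=
  Cfsg.Agent.H426.PQ.not_same (k := 1) (by norm_num) (by rw [card_G]; norm_num) (by rw [card_G]; norm_num)
    (by norm_num) mem_3_18538750076

theorem m_3_29 : ¬ Same 3 29 ↥M.G :=
  Cfsg.Agent.H426.PQ.not_same (k := 1) (by norm_num) (by rw [card_G]; norm_num) (by rw [card_G]; norm_num)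
    (by norm_num) mem_3_842609326

theorem m_3_31 : ¬ Same 3 31 ↥M.G :=
  Cfsg.Agent.H426.PQ.not_same (k := 1) (by norm_num) (by rw [card_G]; norm_num) (by rw [card_G]; norm_num)
    (by norm_num) mem_3_842609326

theorem m_3_41 : ¬ Same 3 41 ↥M.G :=
  Cfsg.Agent.H426.PQ.not_same (k := 1) (by norm_num) (by rw [card_G]; norm_num) (by rw [card_G]; norm_num)
    (by norm_num) mem_3_18538750076

theorem m_3_47 : ¬ Same 3 47 ↥M.G :=
  Cfsg.Agent.H426.PQ.not_same (k := 1) (by norm_num) (by rw [card_G]; norm_num) (by rw [card_G]; norm_num)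
    (by norm_num) mem_3_196883

theorem m_3_59 : ¬ Same 3 59 ↥M.G :=
  Cfsg.Agent.H426.PQ.not_same (k := 1) (by norm_num) (by rw [card_G]; norm_num) (by rw [card_G]; norm_num)
    (by norm_num) mem_3_196883

theorem m_3_71 : ¬ Same 3 71 ↥M.G :=
  Cfsg.Agent.H426.PQ.not_same (k := 1) (by norm_num) (by rw [card_G]; norm_num) (by rw [card_G]; norm_num)
    (by norm_num) mem_3_196883

theorem m_5_11 : ¬ Same 5 11 ↥M.G :=
  Cfsg.Agent.H426.PQ.not_same (k := 2) (by norm_num) (by rw [card_G]; norm_num) (by rw [card_G]; norm_num)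
    (by norm_num) mem_5_49609712911192813665

theorem m_5_13 : ¬ Same 5 13 ↥M.G :=
  Cfsg.Agent.H426.PQ.not_same (k := 3) (by norm_num) (by rw [card_G]; norm_num) (by rw [card_G]; norm_num)
    (by norm_num) mem_5_47377503606648784400

theorem m_5_17 : ¬ Same 5 17 ↥M.G :=
  Cfsg.Agent.H426.PQ.not_same (k := 1) (by norm_num) (by rw [card_G]; norm_num) (by rw [card_G]; norm_num)
    (by norm_num) mem_5_36173193327999

theorem m_5_19 : ¬ Same 5 19 ↥M.G :=
  Cfsg.Agent.H426.PQ.not_same (k := 1) (by norm_num) (by rw [card_G]; norm_num) (by rw [card_G]; norm_num)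
    (by norm_num) mem_5_36173193327999

theorem m_5_23 : ¬ Same 5 23 ↥M.G :=
  Cfsg.Agent.H426.PQ.not_same (k := 1) (by norm_num) (by rw [card_G]; norm_num) (by rw [card_G]; norm_num)
    (by norm_num) mem_5_18538750076

theorem m_5_29 : ¬ Same 5 29 ↥M.G :=
  Cfsg.Agent.H426.PQ.not_same (k := 1) (by norm_num) (by rw [card_G]; norm_num) (by rw [card_G]; norm_num)
    (by norm_num) mem_5_842609326

theorem m_5_31 : ¬ Same 5 31 ↥M.G :=
  Cfsg.Agent.H426.PQ.not_same (k := 1) (by norm_num) (by rw [card_G]; norm_num) (by rw [card_G]; norm_num)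
    (by norm_num) mem_5_842609326

theorem m_5_41 : ¬ Same 5 41 ↥M.G :=
  Cfsg.Agent.H426.PQ.not_same (k := 1) (by norm_num) (by rw [card_G]; norm_num) (by rw [card_G]; norm_num)
    (by norm_num) mem_5_18538750076

theorem m_5_47 : ¬ Same 5 47 ↥M.G :=
  Cfsg.Agent.H426.PQ.not_same (k := 1) (by norm_num) (by rw [card_G]; norm_num) (by rw [card_G]; norm_num)
    (by norm_num) mem_5_196883

theorem m_5_59 : ¬ Same 5 59 ↥M.G :=
  Cfsg.Agent.H426.PQ.not_same (k := 1) (by norm_num) (by rw [card_G]; norm_num) (by rw [card_G]; norm_num)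
    (by norm_num) mem_5_196883

theorem m_5_71 : ¬ Same 5 71 ↥M.G :=
  Cfsg.Agent.H426.PQ.not_same (k := 1) (by norm_num) (by rw [card_G]; norm_num) (by rw [card_G]; norm_num)
    (by norm_num) mem_5_196883

theorem m_7_11 : ¬ Same 7 11 ↥M.G :=
  Cfsg.Agent.H426.PQ.not_same (k := 2) (by norm_num) (by rw [card_G]; norm_num) (by rw [card_G]; norm_num)
    (by norm_num) mem_7_49609712911192813665

theorem m_7_13 : ¬ Same 7 13 ↥M.G :=
  Cfsg.Agent.H426.PQ.not_same (k := 3) (by norm_num) (by rw [card_G]; norm_num) (by rw [card_G]; norm_num)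
    (by norm_num) mem_7_47377503606648784400

theorem m_7_17 : ¬ Same 7 17 ↥M.G :=
  Cfsg.Agent.H426.PQ.not_same (k := 1) (by norm_num) (by rw [card_G]; norm_num) (by rw [card_G]; norm_num)
    (by norm_num) mem_7_47377503606648784400

theorem m_7_19 : ¬ Same 7 19 ↥M.G :=
  Cfsg.Agent.H426.PQ.not_same (k := 1) (by norm_num) (by rw [card_G]; norm_num) (by rw [card_G]; norm_num)
    (by norm_num) mem_7_1109944460516150

theorem m_7_23 : ¬ Same 7 23 ↥M.G :=
  Cfsg.Agent.H426.PQ.not_same (k := 1) (by norm_num) (by rw [card_G]; norm_num) (by rw [card_G]; norm_num)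
    (by norm_num) mem_7_18538750076

theorem m_7_29 : ¬ Same 7 29 ↥M.G :=
  Cfsg.Agent.H426.PQ.not_same (k := 1) (by norm_num) (by rw [card_G]; norm_num) (by rw [card_G]; norm_num)
    (by norm_num) mem_7_18538750076

theorem m_7_31 : ¬ Same 7 31 ↥M.G :=
  Cfsg.Agent.H426.PQ.not_same (k := 1) (by norm_num) (by rw [card_G]; norm_num) (by rw [card_G]; norm_num)
    (by norm_num) mem_7_18538750076

theorem m_7_41 : ¬ Same 7 41 ↥M.G :=
  Cfsg.Agent.H426.PQ.not_same (k := 1) (by norm_num) (by rw [card_G]; norm_num) (by rw [card_G]; norm_num)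
    (by norm_num) mem_7_18538750076

theorem m_7_47 : ¬ Same 7 47 ↥M.G :=
  Cfsg.Agent.H426.PQ.not_same (k := 1) (by norm_num) (by rw [card_G]; norm_num) (by rw [card_G]; norm_num)
    (by norm_num) mem_7_196883

theorem m_7_59 : ¬ Same 7 59 ↥M.G :=
  Cfsg.Agent.H426.PQ.not_same (k := 1) (by norm_num) (by rw [card_G]; norm_num) (by rw [card_G]; norm_num)
    (by norm_num) mem_7_196883

theorem m_7_71 : ¬ Same 7 71 ↥M.G :=
  Cfsg.Agent.H426.PQ.not_same (k := 1) (by norm_num) (by rw [card_G]; norm_num) (by rw [card_G]; norm_num)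
    (by norm_num) mem_7_196883

theorem m_11_13 : ¬ Same 11 13 ↥M.G :=
  Cfsg.Agent.H426.PQ.not_same (k := 3) (by norm_num) (by rw [card_G]; norm_num) (by rw [card_G]; norm_num)
    (by norm_num) mem_11_47377503606648784400

theorem m_11_17 : ¬ Same 11 17 ↥M.G :=
  Cfsg.Agent.H426.PQ.not_same (k := 1) (by norm_num) (by rw [card_G]; norm_num) (by rw [card_G]; norm_num)
    (by norm_num) mem_11_47377503606648784400

theorem m_11_19 : ¬ Same 11 19 ↥M.G :=
  Cfsg.Agent.H426.PQ.not_same (k := 1) (by norm_num) (by rw [card_G]; norm_num) (by rw [card_G]; norm_num)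
    (by norm_num) mem_11_251098487132187500

theorem m_11_23 : ¬ Same 11 23 ↥M.G :=
  Cfsg.Agent.H426.PQ.not_same (k := 1) (by norm_num) (by rw [card_G]; norm_num) (by rw [card_G]; norm_num)
    (by norm_num) mem_11_47377503606648784400

theorem m_11_29 : ¬ Same 11 29 ↥M.G :=
  Cfsg.Agent.H426.PQ.not_same (k := 1) (by norm_num) (by rw [card_G]; norm_num) (by rw [card_G]; norm_num)
    (by norm_num) mem_11_47377503606648784400

theorem m_11_31 : ¬ Same 11 31 ↥M.G :=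
  Cfsg.Agent.H426.PQ.not_same (k := 1) (by norm_num) (by rw [card_G]; norm_num) (by rw [card_G]; norm_num)
    (by norm_num) mem_11_251098487132187500

theorem m_11_41 : ¬ Same 11 41 ↥M.G :=
  Cfsg.Agent.H426.PQ.not_same (k := 1) (by norm_num) (by rw [card_G]; norm_num) (by rw [card_G]; norm_num)
    (by norm_num) mem_11_251098487132187500

theorem m_11_47 : ¬ Same 11 47 ↥M.G :=
  Cfsg.Agent.H426.PQ.not_same (k := 1) (by norm_num) (by rw [card_G]; norm_num) (by rw [card_G]; norm_num)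
    (by norm_num) mem_11_251098487132187500

theorem m_11_59 : ¬ Same 11 59 ↥M.G :=
  Cfsg.Agent.H426.PQ.not_same (k := 1) (by norm_num) (by rw [card_G]; norm_num) (by rw [card_G]; norm_num)
    (by norm_num) mem_11_251098487132187500

theorem m_11_71 : ¬ Same 11 71 ↥M.G :=
  Cfsg.Agent.H426.PQ.not_same (k := 1) (by norm_num) (by rw [card_G]; norm_num) (by rw [card_G]; norm_num)
    (by norm_num) mem_11_251098487132187500

theorem m_13_19 : ¬ Same 13 19 ↥M.G :=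
  Cfsg.Agent.H426.PQ.not_same (k := 1) (by norm_num) (by rw [card_G]; norm_num) (by rw [card_G]; norm_num)
    (by norm_num) mem_13_1109944460516150

theorem m_13_23 : ¬ Same 13 23 ↥M.G :=
  Cfsg.Agent.H426.PQ.not_same (k := 1) (by norm_num) (by rw [card_G]; norm_num) (by rw [card_G]; norm_num)
    (by norm_num) mem_13_1109944460516150

theorem m_13_29 : ¬ Same 13 29 ↥M.G :=
  Cfsg.Agent.H426.PQ.not_same (k := 1) (by norm_num) (by rw [card_G]; norm_num) (by rw [card_G]; norm_num)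
    (by norm_num) mem_13_1109944460516150

theorem m_13_31 : ¬ Same 13 31 ↥M.G :=
  Cfsg.Agent.H426.PQ.not_same (k := 1) (by norm_num) (by rw [card_G]; norm_num) (by rw [card_G]; norm_num)
    (by norm_num) mem_13_1109944460516150

theorem m_13_41 : ¬ Same 13 41 ↥M.G :=
  Cfsg.Agent.H426.PQ.not_same (k := 1) (by norm_num) (by rw [card_G]; norm_num) (by rw [card_G]; norm_num)
    (by norm_num) mem_13_1109944460516150

theorem m_13_47 : ¬ Same 13 47 ↥M.G :=
  Cfsg.Agent.H426.PQ.not_same (k := 1) (by norm_num) (by rw [card_G]; norm_num) (by rw [card_G]; norm_num)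
    (by norm_num) mem_13_1109944460516150

theorem m_13_59 : ¬ Same 13 59 ↥M.G :=
  Cfsg.Agent.H426.PQ.not_same (k := 1) (by norm_num) (by rw [card_G]; norm_num) (by rw [card_G]; norm_num)
    (by norm_num) mem_13_1109944460516150

theorem m_13_71 : ¬ Same 13 71 ↥M.G :=
  Cfsg.Agent.H426.PQ.not_same (k := 1) (by norm_num) (by rw [card_G]; norm_num) (by rw [card_G]; norm_num)
    (by norm_num) mem_13_1109944460516150

theorem m_17_41 : ¬ Same 17 41 ↥M.G := fun hS =>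
  Cfsg.Agent.H426.PQ.not_same (k := 1) (by norm_num) (by rw [card_G]; norm_num) (by rw [card_G]; norm_num)
    (by norm_num) mem_41_36173193327999 hS.symm

theorem m_19_29 : ¬ Same 19 29 ↥M.G := fun hS =>
  Cfsg.Agent.H426.PQ.not_same (k := 1) (by norm_num) (by rw [card_G]; norm_num) (by rw [card_G]; norm_num)
    (by norm_num) mem_29_251098487132187500 hS.symm

theorem m_19_41 : ¬ Same 19 41 ↥M.G := fun hS =>
  Cfsg.Agent.H426.PQ.not_same (k := 1) (by norm_num) (by rw [card_G]; norm_num) (by rw [card_G]; norm_num)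
    (by norm_num) mem_41_36173193327999 hS.symm

theorem m_23_59 : ¬ Same 23 59 ↥M.G := fun hS =>
  Cfsg.Agent.H426.PQ.not_same (k := 1) (by norm_num) (by rw [card_G]; norm_num) (by rw [card_G]; norm_num)
    (by norm_num) mem_59_18538750076 hS.symm

theorem m_29_31 : ¬ Same 29 31 ↥M.G :=
  Cfsg.Agent.H426.PQ.not_same (k := 1) (by norm_num) (by rw [card_G]; norm_num) (by rw [card_G]; norm_num)
    (by norm_num) mem_29_251098487132187500

theorem m_29_41 : ¬ Same 29 41 ↥M.G :=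
  Cfsg.Agent.H426.PQ.not_same (k := 1) (by norm_num) (by rw [card_G]; norm_num) (by rw [card_G]; norm_num)
    (by norm_num) mem_29_251098487132187500

theorem m_29_47 : ¬ Same 29 47 ↥M.G :=
  Cfsg.Agent.H426.PQ.not_same (k := 1) (by norm_num) (by rw [card_G]; norm_num) (by rw [card_G]; norm_num)
    (by norm_num) mem_29_251098487132187500

theorem m_29_59 : ¬ Same 29 59 ↥M.G :=
  Cfsg.Agent.H426.PQ.not_same (k := 1) (by norm_num) (by rw [card_G]; norm_num) (by rw [card_G]; norm_num)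
    (by norm_num) mem_29_251098487132187500

theorem m_29_71 : ¬ Same 29 71 ↥M.G :=
  Cfsg.Agent.H426.PQ.not_same (k := 1) (by norm_num) (by rw [card_G]; norm_num) (by rw [card_G]; norm_num)
    (by norm_num) mem_29_251098487132187500

theorem m_31_41 : ¬ Same 31 41 ↥M.G := fun hS =>
  Cfsg.Agent.H426.PQ.not_same (k := 1) (by norm_num) (by rw [card_G]; norm_num) (by rw [card_G]; norm_num)
    (by norm_num) mem_41_36173193327999 hS.symm

theorem m_31_59 : ¬ Same 31 59 ↥M.G := fun hS =>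
  Cfsg.Agent.H426.PQ.not_same (k := 1) (by norm_num) (by rw [card_G]; norm_num) (by rw [card_G]; norm_num)
    (by norm_num) mem_59_18538750076 hS.symm

theorem m_31_71 : ¬ Same 31 71 ↥M.G := fun hS =>
  Cfsg.Agent.H426.PQ.not_same (k := 1) (by norm_num) (by rw [card_G]; norm_num) (by rw [card_G]; norm_num)
    (by norm_num) mem_71_842609326 hS.symm

theorem m_41_59 : ¬ Same 41 59 ↥M.G :=
  Cfsg.Agent.H426.PQ.not_same (k := 1) (by norm_num) (by rw [card_G]; norm_num) (by rw [card_G]; norm_num)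
    (by norm_num) mem_41_36173193327999

theorem m_41_71 : ¬ Same 41 71 ↥M.G :=
  Cfsg.Agent.H426.PQ.not_same (k := 1) (by norm_num) (by rw [card_G]; norm_num) (by rw [card_G]; norm_num)
    (by norm_num) mem_41_36173193327999

theorem m_47_71 : ¬ Same 47 71 ↥M.G := fun hS =>
  Cfsg.Agent.H426.PQ.not_same (k := 1) (by norm_num) (by rw [card_G]; norm_num) (by rw [card_G]; norm_num)
    (by norm_num) mem_71_842609326 hS.symm

theorem m_59_71 : ¬ Same 59 71 ↥M.G :=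
  Cfsg.Agent.H426.PQ.not_same (k := 1) (by norm_num) (by rw [card_G]; norm_num) (by rw [card_G]; norm_num)
    (by norm_num) mem_59_18538750076

/-- The pairs killed by the Hecke test. -/
def L : List (ℕ × ℕ) := [
  (2, 11), (2, 13), (2, 17), (2, 19), (2, 23), (2, 29), (2, 31), (2, 41), (2, 47), (2, 59), (2, 71), (3, 11),
  (3, 13), (3, 17), (3, 19), (3, 23), (3, 29), (3, 31), (3, 41), (3, 47), (3, 59), (3, 71), (5, 11), (5, 13),
  (5, 17), (5, 19), (5, 23), (5, 29), (5, 31), (5, 41), (5, 47), (5, 59), (5, 71), (7, 11), (7, 13), (7, 17),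
  (7, 19), (7, 23), (7, 29), (7, 31), (7, 41), (7, 47), (7, 59), (7, 71), (11, 13), (11, 17), (11, 19), (11,
  23), (11, 29), (11, 31), (11, 41), (11, 47), (11, 59), (11, 71), (13, 19), (13, 23), (13, 29), (13, 31), (13,
  41), (13, 47), (13, 59), (13, 71), (17, 41), (19, 29), (19, 41), (23, 59), (29, 31), (29, 41), (29, 47), (29,
  59), (29, 71), (31, 41), (31, 59), (31, 71), (41, 59), (41, 71), (47, 71), (59, 71)]

theorem not_same_model {p q : ℕ} (h : (p, q) ∈ L) : ¬ Same p q ↥M.G := by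
  simp only [L, List.mem_cons, Prod.mk.injEq, List.not_mem_nil, or_false] at h
  rcases h with ⟨rfl, rfl⟩ | ⟨rfl, rfl⟩ | ⟨rfl, rfl⟩ | ⟨rfl, rfl⟩ | ⟨rfl, rfl⟩ | ⟨rfl, rfl⟩ | ⟨rfl, rfl⟩ | ⟨rfl, rfl⟩ | ⟨rfl, rfl⟩ | ⟨rfl, rfl⟩ | ⟨rfl, rfl⟩ | ⟨rfl, rfl⟩ | ⟨rfl, rfl⟩ | ⟨rfl, rfl⟩ | ⟨rfl, rfl⟩ | ⟨rfl, rfl⟩ | ⟨rfl, rfl⟩ | ⟨rfl, rfl⟩ | ⟨rfl, rfl⟩ | ⟨rfl, rfl⟩ | ⟨rfl, rfl⟩ | ⟨rfl, rfl⟩ | ⟨rfl, rfl⟩ | ⟨rfl, rfl⟩ | ⟨rfl, rfl⟩ | ⟨rfl, rfl⟩ | ⟨rfl, rfl⟩ | ⟨rfl, rfl⟩ | ⟨rfl, rfl⟩ | ⟨rfl, rfl⟩ | ⟨rfl, rfl⟩ | ⟨rfl, rfl⟩ | ⟨rfl, rfl⟩ | ⟨rfl, rfl⟩ | ⟨rfl, rfl⟩ | ⟨rfl, rfl⟩ | ⟨rfl, rfl⟩ | ⟨rfl, rfl⟩ | ⟨rfl, rfl⟩ | ⟨rfl, rfl⟩ | ⟨rfl, rfl⟩ | ⟨rfl, rfl⟩ | ⟨rfl, rfl⟩ | ⟨rfl, rfl⟩ | ⟨rfl, rfl⟩ | ⟨rfl, rfl⟩ | ⟨rfl, rfl⟩ | ⟨rfl, rfl⟩ | ⟨rfl, rfl⟩ | ⟨rfl, rfl⟩ | ⟨rfl, rfl⟩ | ⟨rfl, rfl⟩ | ⟨rfl, rfl⟩ | ⟨rfl, rfl⟩ | ⟨rfl, rfl⟩ | ⟨rfl, rfl⟩ | ⟨rfl, rfl⟩ | ⟨rfl, rfl⟩ | ⟨rfl, rfl⟩ | ⟨rfl, rfl⟩ | ⟨rfl, rfl⟩ | ⟨rfl, rfl⟩ | ⟨rfl, rfl⟩ | ⟨rfl, rfl⟩ | ⟨rfl,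 rfl⟩ | ⟨rfl, rfl⟩ | ⟨rfl, rfl⟩ | ⟨rfl, rfl⟩ | ⟨rfl, rfl⟩ | ⟨rfl, rfl⟩ | ⟨rfl, rfl⟩ | ⟨rfl, rfl⟩ | ⟨rfl, rfl⟩ | ⟨rfl, rfl⟩ | ⟨rfl, rfl⟩ | ⟨rfl, rfl⟩ | ⟨rfl, rfl⟩ | ⟨rfl, rfl⟩
  · exact m_2_11
  · exact m_2_13
  · exact m_2_17
  · exact m_2_19
  · exact m_2_23
  · exact m_2_29
  · exact m_2_31
  · exact m_2_41
  · exact m_2_47
  · exact m_2_59
  · exact m_2_71
  · exact m_3_11
  · exact m_3_13
  · exact m_3_17
  · exact m_3_19
  · exact m_3_23
  · exact m_3_29
  · exact m_3_31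
  · exact m_3_41
  · exact m_3_47
  · exact m_3_59
  · exact m_3_71
  · exact m_5_11
  · exact m_5_13
  · exact m_5_17
  · exact m_5_19
  · exact m_5_23
  · exact m_5_29
  · exact m_5_31
  · exact m_5_41
  · exact m_5_47
  · exact m_5_59
  · exact m_5_71
  · exact m_7_11
  · exact m_7_13
  · exact m_7_17
  · exact m_7_19
  · exact m_7_23
  · exact m_7_29
  · exact m_7_31
  · exact m_7_41
  · exact m_7_47
  · exact m_7_59
  · exact m_7_71
  · exact m_11_13
  · exact m_11_17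
  · exact m_11_19
  · exact m_11_23
  · exact m_11_29
  · exact m_11_31
  · exact m_11_41
  · exact m_11_47
  · exact m_11_59
  · exact m_11_71
  · exact m_13_19
  · exact m_13_23
  · exact m_13_29
  · exact m_13_31
  · exact m_13_41
  · exact m_13_47
  · exact m_13_59
  · exact m_13_71
  · exact m_17_41
  · exact m_19_29
  · exact m_19_41
  · exact m_23_59
  · exact m_29_31
  · exact m_29_41
  · exact m_29_47
  · exact m_29_59
  · exact m_29_71
  · exact m_31_41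
  · exact m_31_59
  · exact m_31_71
  · exact m_41_59
  · exact m_41_71
  · exact m_47_71
  · exact m_59_71

/-- **The pairs `L` for the Monster.** -/
theorem not_same_m {S : Type u} [Group S] (h : Spor.IsoM S) {p q : ℕ} (hpq : (p, q) ∈ L) : ¬ Same p q S := by
  obtain ⟨e⟩ := h
  obtain ⟨e'⟩ := MonsterP.Equiv.equiv
  exact fun hS => not_same_model hpq (Cfsg.Agent.H766.PQ.Same.of_equiv (e.trans e') hS)

end Cfsg.Agent.H101.PQ.MHecke
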