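import Cfsg.Agent.H101.PQ.B
import Cfsg.Agent.H961.CRM.Base

/-!
# The Monster: `¬ PQ 2 q` (helper101, for S4612)

The centralizer of an involution of the class `2A` is the double cover of the Baby Monster.
-/

set_option autoImplicit false
set_option maxRecDepth 100000

open Cfsg Cfsg.Agent

namespace Cfsg.Agent.H101.PQ

open Cfsg.Agent.H317.PQ Cfsg.Agent.H358.A3 Subgroup
open Cfsg.Agent.MonsterU Cfsg.Agent.MonsterU.Assembly Cfsg.Agent.MonsterP
open Cfsg.Agent.MonsterX Cfsg.Agent.MonsterX.Model Cfsg.Agent.MonsterX.MainPack Cfsg.Agent.MonsterX.MainSimple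
  Cfsg.Agent.MonsterX.MainBasic

universe u v

theorem finite_mon : Finite Spor.Monster :=
  have := MFive.Row.finite_model
  Finite.of_equiv _ MonsterP.Equiv.equiv.some.symm.toEquiv

/-- an involution whose centralizer is the double cover of the Baby Monster -/
theorem exists_cover : ∃ t : ↥InstData.M.G, Cfsg.IsNonsplitDoubleCover ↥(centralizer ({t} : Set ↥InstData.M.G))
    Cfsg.Spor.BabyMonster :=
  ⟨_, H546.MFiveFull.cover_t Uncond.all (NodesGrp.prel NodesU.hyp)
      (NodesNe.ne NodesU.hyp) NodesU.conj_ten Cfsg.Agent.S1704.result⟩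

/-- `PQ 2 q` passes from `G` to `B` when `C(t) = 2.B` -/
theorem PQ_of_cover {G : Type u} {K : Type v} [Group G] [Group K] [Finite G] {q : ℕ} (hq : q.Prime) (hq2 : q ≠ 2)
    (h : PQ 2 q G) {t : G} (ht : Cfsg.IsNonsplitDoubleCover ↥(centralizer ({t} : Set G)) K) : PQ 2 q K := by
  obtain ⟨h2, ⟨e⟩, -⟩ := ht
  have htc : t ∈ centralizer ({t} : Set G) := mem_centralizer_singleton_iff.2 rfl
  have htz : (⟨t, htc⟩ : ↥(centralizer ({t} : Set G))) ∈ center ↥(centralizer ({t} : Set G)) := by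
    rw [mem_center_iff]
    intro g
    exact Subtype.ext (mem_centralizer_singleton_iff.1 g.2)
  have ho : orderOf t ∣ 2 ^ 1 := by
    rw [pow_one, ← h2]
    have h3 := orderOf_dvd_natCard (⟨_, htz⟩ : ↥(center ↥(centralizer ({t} : Set G))))
    rwa [orderOf_mk, orderOf_mk] at h3
  obtain ⟨k, -, hk⟩ := (Nat.dvd_prime_pow Nat.prime_two).1 ho
  have h4 := Cfsg.Agent.H358.A3.PQ.centralizer Nat.prime_two hq hq2.symm h ⟨k, hk⟩
  refine PQ.map_central Nat.prime_two hq hq2.symm h4 (e.toMonoidHom.comp (QuotientGroup.mk' (center _)))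
    (e.surjective.comp (QuotientGroup.mk'_surjective _)) ?_
  intro x hx
  have h5 : e (QuotientGroup.mk' (center _) x) = 1 := hx
  rw [map_eq_one_iff e e.injective] at h5
  exact (QuotientGroup.eq_one_iff x).1 h5

theorem not_PQ_model {q : ℕ} (hq : q.Prime) (hq2 : q ≠ 2) (hqd : q ∣ 76532479683774853939200) :
    ¬ PQ 2 q ↥InstData.M.G := by
  intro h
  have hfin := MFive.Row.finite_model
  obtain ⟨t, ht⟩ := exists_cover
  exact not_PQ_baby hq hq2 hqd (PQ_of_cover hq hq2 h ht)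

/-- **`¬ PQ 2 q M`** for `q = 3, 5, 7, 11, 13, 17, 19`. -/
theorem not_PQ_two_m {S : Type u} [Group S] (h : Spor.IsoM S) {q : ℕ}
    (hq : q = 3 ∨ q = 5 ∨ q = 7 ∨ q = 11 ∨ q = 13 ∨ q = 17 ∨ q = 19) : ¬ PQ 2 q S := by
  obtain ⟨e⟩ := h
  obtain ⟨e'⟩ := MonsterP.Equiv.equiv
  have hfin := finite_mon
  have : Finite S := Finite.of_equiv _ e.symm.toEquiv
  intro hP
  have h1 : PQ 2 q ↥InstData.M.G := PQ.of_equiv (e.trans e') hP
  rcases hq with rfl | rfl | rfl | rfl | rfl | rfl | rfl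
  all_goals
    refine not_PQ_model (by norm_num) (by norm_num) ?_ h1
    norm_num

theorem not_same_two_m {S : Type u} [Group S] (h : Spor.IsoM S) {q : ℕ}
    (hq : q = 3 ∨ q = 5 ∨ q = 7 ∨ q = 11 ∨ q = 13 ∨ q = 17 ∨ q = 19) : ¬ Same 2 q S := by
  have hfin := finite_mon
  have : Finite S := Finite.of_equiv _ h.some.symm.toEquiv
  refine fun hS => not_PQ_two_m h hq (PQ.of_same ?_ hS)
  rcases hq with rfl | rfl | rfl | rfl | rfl | rfl | rfl <;> norm_num

end Cfsg.Agent.H101.PQ
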