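import Cfsg.Agent.H947.PQ.Own
import Cfsg.Agent.H792.PQ.A3a
import Cfsg.Agent.H358.A3.Normal

/-!
# S4612: groups of Lie type in their own characteristic as sections of centralizers (helper101)

* `not_PQ_own` : `K` of Lie type in characteristic `r`, `q ≠ r` a prime divisor of `|K|`: `B0 r K` is not a union of
  `q`-blocks.
* `PQ.map_core`, `PQ.map_center`, `PQ.of_surj` : images under homomorphisms with a `p'`-kernel, a central `p`-kernel,
  a central kernel.
-/

set_option autoImplicit false

open Cfsg Cfsg.Agent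

namespace Cfsg.Agent.H101.PQ

open Cfsg.Agent.H317.PQ Cfsg.Agent.Blocks.Basic Cfsg.Agent.H947.PQ Cfsg.Agent.H358.A3

universe u v

theorem not_PQ_own {G : Type u} [Group G] [Finite G] {r q : ℕ} (hr : r.Prime) (hq : q.Prime) (hqr : q ≠ r)
    (hG : IsLieTypeChar r G) (hqG : q ∣ Nat.card G) : ¬ PQ r q G := by
  intro hS
  have : Fact r.Prime := ⟨hr⟩
  have : Fact q.Prime := ⟨hq⟩
  obtain ⟨st, hdeg, hall, hrG⟩ := exists_st hr hG
  obtain ⟨R, hR⟩ := Blocks.ExistsModular.exists_isPModular hr
  obtain ⟨M, hM⟩ := Blocks.ExistsModular.exists_isPModular hq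
  have hRp : R.IsPrime := hR.2.1.isPrime
  have hMp : M.IsPrime := hM.2.1.isPrime
  have hG0 : Nat.card G ≠ 0 := Nat.card_pos.ne'
  -- the Steinberg character is not in the principal `r`-block
  have hst : ¬ r ∣ Nat.card G / charDegree (st : G → ℂ) := by
    rw [hdeg]
    exact Nat.not_dvd_ordCompl hr hG0
  have hsing := (S0914.result r R hR st).1 hst
  have hnr : st ∉ B0 r G := by
    intro h
    rw [B0_eq hr hR] at h
    have h1 : (⟨_, isIrrCharacter_one⟩ : IrrCharacter G) ∈ blockOf R (st : G → ℂ) := by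
      rw [mem_blockOf]
      exact sameBlock_symm h
    rw [hsing, Set.mem_singleton_iff] at h1
    have h2 : charDegree (st : G → ℂ) = 1 := by
      rw [← h1]
      exact charDegree_of_eq (by simp)
    rw [hdeg] at h2
    have h3 := hr.factorization_pos_of_dvd hG0 hrG
    exact (Nat.one_lt_pow h3.ne' hr.one_lt).ne' h2
  -- it is alone in its `q`-block
  have hsq : blockOf M (st : G → ℂ) = {st} := by
    ext ψ
    rw [Set.mem_singleton_iff, mem_blockOf]
    refine ⟨fun h => ?_, fun h => h ▸ sameBlock_refl _⟩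
    by_contra hne
    exact hnr (hS M hM ψ st (sameBlock_symm h) (hall ψ hne))
  refine (S0914.result q M hM st).2 hsq ?_
  rw [hdeg]
  have hcop : Nat.Coprime q (r ^ (Nat.card G).factorization r) :=
    (Nat.Prime.coprime_iff_not_dvd hq).2 fun h =>
      hqr ((Nat.prime_dvd_prime_iff_eq hq hr).1 (hq.dvd_of_dvd_pow h))
  refine hcop.dvd_of_dvd_mul_left ?_
  rw [Nat.ordProj_mul_ordCompl_eq_self]
  exact hqG

/-! ### Homomorphic images -/

theorem _root_.Cfsg.Agent.H358.A3.PQ.map_core {G : Type u} {K : Type v} [Group G] [Group K] [Finite G] {p q : ℕ} (hp : p.Prime) (hq : q.Prime)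
    (hpq : p ≠ q) (h : PQ p q G) (f : G →* K) (hf : Function.Surjective f) (hN : ¬ p ∣ Nat.card f.ker) : PQ p q K :=
  PQ.of_equiv (QuotientGroup.quotientKerEquivOfSurjective f hf) (PQ.quot_core hp hq hpq h f.ker hN)

theorem _root_.Cfsg.Agent.H358.A3.PQ.map_center {G : Type u} {K : Type v} [Group G] [Group K] [Finite G] {p q : ℕ} (hp : p.Prime) (hq : q.Prime)
    (hpq : p ≠ q) (h : PQ p q G) (f : G →* K) (hf : Function.Surjective f) (hZ : f.ker ≤ Subgroup.center G)
    (hN : IsPGroup p f.ker) : PQ p q K :=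
  PQ.of_equiv (QuotientGroup.quotientKerEquivOfSurjective f hf) (PQ.quot_center hp hq hpq h f.ker hZ hN)

/-- any central kernel -/
theorem _root_.Cfsg.Agent.H358.A3.PQ.map_central {G : Type u} {K : Type v} [Group G] [Group K] [Finite G] {p q : ℕ}
    (hp : p.Prime) (hq : q.Prime) (hpq : p ≠ q) (h : PQ p q G) (f : G →* K) (hf : Function.Surjective f)
    (hZ : f.ker ≤ Subgroup.center G) : PQ p q K := by
  have : Fact p.Prime := ⟨hp⟩
  let P : Sylow p f.ker := default
  let P' : Subgroup G := (P : Subgroup f.ker).map f.ker.subtype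
  have hP'Z : P' ≤ f.ker := by
    rintro _ ⟨z, -, rfl⟩
    exact z.2
  have hPn : P'.Normal := ⟨fun n hn g => by
    have h1 := Subgroup.mem_center_iff.1 (hZ (hP'Z hn)) g
    rw [h1, mul_inv_cancel_right]
    exact hn⟩
  have hPp : IsPGroup p P' := P.2.map _
  have h1 : PQ p q (G ⧸ P') := PQ.quot_center hp hq hpq h P' (hP'Z.trans hZ) hPp
  let f' : G ⧸ P' →* K := QuotientGroup.lift P' f fun x hx => hP'Z hx
  have hf' : Function.Surjective f' := by
    intro k
    obtain ⟨g, rfl⟩ := hf k
    exact ⟨QuotientGroup.mk g, rfl⟩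
  refine PQ.map_core hp hq hpq h1 f' hf' ?_
  -- the order of the kernel
  have hcard : Nat.card f'.ker * Nat.card P' = Nat.card f.ker := by
    have a1 : Nat.card f.ker * Nat.card K = Nat.card G := by
      rw [← f.ker.card_mul_index, Subgroup.index_ker, MonoidHom.range_eq_top.2 hf, Subgroup.card_top]
    have a2 : Nat.card f'.ker * Nat.card K = Nat.card (G ⧸ P') := by
      rw [← f'.ker.card_mul_index, Subgroup.index_ker, MonoidHom.range_eq_top.2 hf', Subgroup.card_top]
    have a3 : Nat.card G = Nat.card (G ⧸ P') * Nat.card P' := Subgroup.card_eq_card_quotient_mul_card_subgroup P'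
    have hK : Finite K := Finite.of_surjective f hf
    have hK0 : 0 < Nat.card K := Nat.card_pos
    apply Nat.eq_of_mul_eq_mul_right hK0
    rw [a1, a3, ← a2]
    ring
  intro hdvd
  have hP'c : Nat.card P' = Nat.card P := Subgroup.card_map_of_injective f.ker.subtype_injective
  have h3 : ¬ p ∣ (P : Subgroup f.ker).index := P.not_dvd_index
  apply h3
  have h4 : Nat.card P * (P : Subgroup f.ker).index = Nat.card f.ker := (P : Subgroup f.ker).card_mul_index
  rw [← hcard, hP'c, mul_comm (Nat.card f'.ker)] at h4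
  rw [Nat.eq_of_mul_eq_mul_left Nat.card_pos h4]
  exact hdvd

end Cfsg.Agent.H101.PQ
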