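import Cfsg.Agent.H30.PairFn

/-!
# Irreducible characters from functions on unordered pairs: class sums, rationality (helper101)

* `char_rat` : the character of a spherical function with rational values is rational valued;
* `exists_deg` : `H30.PairFn.Ctx.exists_deg` with the value of the class sum and the rationality.
-/

set_option autoImplicit false

namespace Cfsg.Agent.H101.PQ.PairChar

open Cfsg Representation
open Cfsg.Agent.H678.DG.Sph
open scoped ComplexConjugate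

universe u v

attribute [local instance] Classical.propDecidable

section sph

variable {G : Type u} [Group G] [Finite G] {X : Type v} [Fintype X] [MulAction G X]
variable {V : Submodule ℂ (X → ℂ)}

theorem inv_stab (hV : ∀ (g : G), ∀ φ ∈ V, (fun x => φ (g⁻¹ • x)) ∈ V) (x₀ : X) {v : X → ℂ} (hv : v ∈ V)
    (hv1 : v x₀ = 1) (K : Subgroup G) (hK : ∀ g ∈ K, g • x₀ = x₀)
    (huniq : ∀ φ ∈ V, (∀ g ∈ K, ∀ x, φ (g • x) = φ x) → ∃ c : ℂ, φ = c • v) :
    ∀ g : G, g • x₀ = x₀ → ∀ x, v (g • x) = v x := by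
  have := Fintype.ofFinite (MulAction.stabilizer G x₀)
  set S := MulAction.stabilizer G x₀ with hS
  have hc0 : (Fintype.card S : ℂ) ≠ 0 := Nat.cast_ne_zero.2 Fintype.card_ne_zero
  let av : X → ℂ := (Fintype.card S : ℂ)⁻¹ • ∑ k : S, fun x => v ((k : G) • x)
  have hav : ∀ x, av x = (Fintype.card S : ℂ)⁻¹ * ∑ k : S, v ((k : G) • x) := by
    intro x
    show ((Fintype.card S : ℂ)⁻¹ • ∑ k : S, fun x => v ((k : G) • x)) x = _
    rw [Pi.smul_apply, Finset.sum_apply, smul_eq_mul]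
  have havW : av ∈ V := by
    refine V.smul_mem _ (V.sum_mem fun k _ => ?_)
    have h1 := hV ((k : G)⁻¹) v hv
    simp only [inv_inv] at h1
    exact h1
  have havS : ∀ g : G, g • x₀ = x₀ → ∀ x, av (g • x) = av x := by
    intro g hg x
    rw [hav, hav]
    congr 1
    rw [← Equiv.sum_comp (Equiv.mulRight (⟨g, hg⟩ : S)) fun k : S => v ((k : G) • x)]
    refine Finset.sum_congr rfl fun k _ => ?_
    rw [Equiv.coe_mulRight, Subgroup.coe_mul, mul_smul]
  have h0 : av x₀ = 1 := by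
    rw [hav]
    have h1 : ∀ k : S, v ((k : G) • x₀) = 1 := fun k => by
      rw [MulAction.mem_stabilizer_iff.1 k.2, hv1]
    rw [Finset.sum_congr rfl fun k _ => h1 k, Finset.sum_const, Finset.card_univ, nsmul_eq_mul,
      mul_one, inv_mul_cancel₀ hc0]
  obtain ⟨c, hc⟩ := huniq av havW fun g hg x => havS g (hK g hg) x
  have hc1 : c = 1 := by
    have h1 := congrFun hc x₀
    rw [h0, Pi.smul_apply, hv1, smul_eq_mul, mul_one] at h1
    exact h1.symm
  rw [hc1, one_smul] at hc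
  exact fun g hg x => by rw [← hc]; exact havS g hg x

/-- **Rationality** -/
theorem char_rat [MulAction.IsPretransitive G X]
    (hV : ∀ (g : G), ∀ φ ∈ V, (fun x => φ (g⁻¹ • x)) ∈ V) (x₀ : X) {v : X → ℂ} (hv : v ∈ V) (hv1 : v x₀ = 1)
    (K : Subgroup G) (hK : ∀ g ∈ K, g • x₀ = x₀)
    (huniq : ∀ φ ∈ V, (∀ g ∈ K, ∀ x, φ (g • x) = φ x) → ∃ c : ℂ, φ = c • v)
    (hr : ∀ x, ∃ r : ℚ, v x = r) (g : G) : ∃ r : ℚ, (rep V hV).character g = r := by
  have hvK := inv_stab hV x₀ hv hv1 K hK huniq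
  have huniq' : ∀ φ ∈ V, (∀ g : G, g • x₀ = x₀ → ∀ x, φ (g • x) = φ x) → ∃ c : ℂ, φ = c • v :=
    fun φ hφ h => huniq φ hφ fun g hg x => h g (hK g hg) x
  have hN0 := nrm_ne_zero hv1
  have hNc := nrm_conj v
  choose γ hγ using fun y : X => MulAction.exists_smul_eq G x₀ y
  let F : X → X → ℂ := fun y x => v ((γ y)⁻¹ • x)
  have hF : ∀ y, F y ∈ V := fun y => hV (γ y) v hv
  have hrep : ∀ φ ∈ V, ∀ y, ∑ x, φ x * conj (F y x) = φ y * nrm v := by
    intro φ hφ y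
    have h1 := (average x₀ hv1 hvK huniq' V le_rfl hV (hV (γ y)⁻¹ φ hφ)).2
    simp only [inv_inv, hγ] at h1
    rw [← h1, ← Equiv.sum_comp (MulAction.toPerm (γ y)) fun x => φ x * conj (F y x)]
    refine Finset.sum_congr rfl fun x _ => ?_
    rw [MulAction.toPerm_apply]
    show _ * conj (v ((γ y)⁻¹ • (γ y) • x)) = _
    rw [inv_smul_smul]
  have hsym : ∀ x y, F x y = conj (F y x) := by
    intro x y
    have h1 := hrep (F x) (hF x) y
    have h2 := hrep (F y) (hF y) x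
    have h3 := congrArg conj h2
    rw [map_sum, map_mul, hNc] at h3
    have h4 : ∑ z, conj (F y z * conj (F x z)) = ∑ z, F x z * conj (F y z) := by
      refine Finset.sum_congr rfl fun z _ => ?_
      rw [map_mul, Complex.conj_conj, mul_comm]
    rw [h4, h1] at h3
    exact mul_right_cancel₀ hN0 h3
  let M : Matrix X X ℂ := Matrix.of fun y x => (nrm v)⁻¹ * F x (g⁻¹ • y)
  have hMapp : ∀ φ y, Matrix.toLin' M φ y = ∑ x, (nrm v)⁻¹ * F x (g⁻¹ • y) * φ x := fun φ y => by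
    rw [Matrix.toLin'_apply, Matrix.mulVec, dotProduct]
    rfl
  have hMF : ∀ φ, Matrix.toLin' M φ = ∑ x, ((nrm v)⁻¹ * φ x) • fun y => F x (g⁻¹ • y) := by
    intro φ
    funext y
    rw [hMapp, Finset.sum_apply]
    refine Finset.sum_congr rfl fun x _ => ?_
    rw [Pi.smul_apply, smul_eq_mul]
    ring
  have hMid : ∀ φ ∈ V, Matrix.toLin' M φ = fun y => φ (g⁻¹ • y) := by
    intro φ hφ
    funext y
    rw [hMapp]
    have h1 := hrep φ hφ (g⁻¹ • y)
    have h2 : ∑ x, (nrm v)⁻¹ * F x (g⁻¹ • y) * φ x = (nrm v)⁻¹ * ∑ x, φ x * conj (F (g⁻¹ • y) x) := by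
      rw [Finset.mul_sum]
      refine Finset.sum_congr rfl fun x _ => ?_
      rw [hsym x (g⁻¹ • y)]
      ring
    rw [h2, h1, mul_comm (φ _), ← mul_assoc, inv_mul_cancel₀ hN0, one_mul]
  have hmem : ∀ φ, Matrix.toLin' M φ ∈ V := by
    intro φ
    rw [hMF]
    exact V.sum_mem fun x _ => V.smul_mem _ (hV g _ (hF x))
  have htr := LinearMap.trace_restrict_eq_of_forall_mem V (Matrix.toLin' M) hmem
  have hres : (Matrix.toLin' M).restrict (fun x (_ : x ∈ V) => hmem x) = rep V hV g := by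
    refine LinearMap.ext fun φ => Subtype.ext ?_
    show Matrix.toLin' M (φ : X → ℂ) = fun y => (φ : X → ℂ) (g⁻¹ • y)
    exact hMid φ φ.2
  have hch : (rep V hV).character g = ∑ y, (nrm v)⁻¹ * F y (g⁻¹ • y) := by
    show LinearMap.trace ℂ V (rep V hV g) = _
    rw [← hres, htr, Matrix.trace_toLin'_eq]
    rfl
  choose r hr' using hr
  have hnr : nrm v = ((∑ x, r x ^ 2 : ℚ) : ℂ) := by
    unfold nrm
    push_cast
    refine Finset.sum_congr rfl fun x _ => ?_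
    rw [hr' x, map_ratCast]
    ring
  refine ⟨∑ y, (∑ x, r x ^ 2)⁻¹ * r ((γ y)⁻¹ • g⁻¹ • y), ?_⟩
  rw [hch]
  push_cast
  refine Finset.sum_congr rfl fun y _ => ?_
  show (nrm v)⁻¹ * v ((γ y)⁻¹ • g⁻¹ • y) = _
  rw [hr', hnr]
  push_cast
  rfl

end sph

section pair

open Cfsg.Agent.H30.PairFn Cfsg.Agent.H30.PairFn.Ctx

variable {G : Type u} [Group G] {X : Ctx G}

/-- the class sum acts as a scalar -/
theorem sum_rep {P : Prop} (hP : P) {τ ω : ℂ} (hsq : ∀ x ∈ X.PT, X.t x * X.t x = 1) :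
    ∑ x ∈ X.PT, rep (X.V P τ ω) V_inv (X.t x) = ω • (1 : Module.End ℂ (X.V P τ ω)) := by
  refine LinearMap.ext fun φ => Subtype.ext (funext fun e => ?_)
  obtain ⟨c, d, h, rfl⟩ := X.exists_pr e
  have h1 := (mem_V.1 φ.2 c d h).2 hP
  rw [LinearMap.sum_apply, Submodule.coe_sum, Finset.sum_apply, LinearMap.smul_apply]
  show _ = ω * (φ : X.E → ℂ) (X.pr h)
  rw [ev_of h] at h1
  rw [← h1]
  unfold Ctx.CC
  refine Finset.sum_congr rfl fun x hx => ?_
  rw [rep_apply, inv_eq_of_mul_eq_one_left (hsq x hx), X.smul_pr, ev_of (X.inv _ h)]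

/-- **Characters from eigenfunctions.** -/
theorem exists_char [Finite G] {P : Prop} (hP : P) {τ ω : ℂ} {v : ℕ → ℕ → ℂ} (hv : IsFn X v) (hv1 : v X.a X.b = 1)
    (hsq : ∀ x ∈ X.PT, X.t x * X.t x = 1)
    (hA : ∀ c d, X.com c d → X.A1 v c d = τ * v c d) (hC : P → ∀ c d, X.com c d → X.CC v c d = ω * v c d)
    (huniq : ∀ ψ, IsFn X ψ → KInv X ψ → (∀ c d, X.com c d → X.A1 ψ c d = τ * ψ c d) →
      (P → ∀ c d, X.com c d → X.CC ψ c d = ω * ψ c d) → ∀ c d, X.com c d → ψ c d = ψ X.a X.b * v c d)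
    (hr : ∀ c d, ∃ r : ℚ, v c d = r)
    {d : ℕ} {n2 s2 : ℂ} (hn : ∑ x ∈ X.PT, ∑ y ∈ X.PT, v x y * conj (v x y) = s2)
    (hE : ∑ x ∈ X.PT, ∑ y ∈ X.PT, X.ev 1 x y = n2) (hd : (d : ℂ) * s2 = n2) :
    ∃ χ : IrrCharacter G, charDegree (χ : G → ℂ) = d ∧
      (∀ g, ∑ x ∈ X.PT, (χ : G → ℂ) (X.t x * g) = ω * (χ : G → ℂ) g) ∧ ∀ g, ∃ r : ℚ, (χ : G → ℂ) g = r := by
  have := Fintype.ofFinite X.E
  obtain ⟨φ, hφ⟩ := exists_ev hv
  have hφV : φ ∈ X.V P τ ω := by
    rw [mem_V]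
    intro c d h
    rw [hφ]
    exact ⟨hA c d h, fun hP => hC hP c d h⟩
  have hx0 : ∀ g ∈ X.K, g • X.pr X.hab = X.pr X.hab := by
    intro g hg
    rw [X.smul_pr, X.pr_eq]
    exact X.hK g hg
  have h1 : φ (X.pr X.hab) = 1 := by
    rw [← ev_of (φ := φ) X.hab, hφ, hv1]
  have hu : ∀ φ' ∈ X.V P τ ω, (∀ g ∈ X.K, ∀ x, φ' (g • x) = φ' x) → ∃ c : ℂ, φ' = c • φ := by
    intro φ' hφ' hK
    rw [mem_V] at hφ'
    refine ⟨φ' (X.pr X.hab), ev_inj ?_⟩
    have hKI : KInv X (X.ev φ') := by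
      intro g hg c d
      rw [← ev_smul_act]
      congr 1
      funext e
      exact hK g hg e
    have h2 := huniq (X.ev φ') (isFn_ev φ') hKI (fun c d h => (hφ' c d h).1) (fun hP c d h => (hφ' c d h).2 hP)
    funext c d
    by_cases h : X.com c d
    · rw [h2 c d h, ev_smul, hφ, ev_of X.hab]
    · rw [ev_not h, ev_not h]
  obtain ⟨χ, hχ, hch⟩ := exists_of_spherical' (V := X.V P τ ω) V_inv (X.pr X.hab) hφV h1 X.K hx0 hu
  refine ⟨χ, ?_, ?_, ?_⟩
  · have hnrm : 2 * nrm φ = s2 := by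
      unfold nrm
      rw [sum_E, ← hn]
      refine Finset.sum_congr rfl fun x _ => Finset.sum_congr rfl fun y _ => ?_
      by_cases h : X.com x y
      · rw [ev_of h, ← hφ, ev_of h]
      · rw [ev_not h, hv.zero x y h, zero_mul]
    have hcard : 2 * (Fintype.card X.E : ℂ) = n2 := by
      rw [← hE, ← sum_E]
      simp
    have h0 := nrm_ne_zero h1
    have h3 : (charDegree (χ : G → ℂ) : ℂ) * nrm φ = d * nrm φ := by
      rw [hχ]
      have h4 : (2 : ℂ) * (Fintype.card X.E : ℂ) = 2 * (d * nrm φ) := by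
        rw [hcard, ← hd, ← hnrm]; ring
      exact mul_left_cancel₀ (by norm_num) h4
    have h4 := mul_right_cancel₀ h0 h3
    exact_mod_cast h4
  · intro g
    rw [hch]
    have h2 : ∀ x, (rep (X.V P τ ω) V_inv).character (X.t x * g) =
        LinearMap.trace ℂ (X.V P τ ω) (rep (X.V P τ ω) V_inv (X.t x) * rep (X.V P τ ω) V_inv g) := by
      intro x
      rw [← map_mul]
      rfl
    rw [Finset.sum_congr rfl fun x _ => h2 x, ← map_sum, ← Finset.sum_mul, sum_rep hP hsq, smul_mul_assoc, one_mul,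
      map_smul, smul_eq_mul]
    rfl
  · intro g
    rw [hch]
    refine char_rat V_inv (X.pr X.hab) hφV h1 X.K hx0 hu (fun e => ?_) g
    obtain ⟨c, d, h, rfl⟩ := X.exists_pr e
    obtain ⟨r, hr'⟩ := hr c d
    exact ⟨r, by rw [← ev_of (φ := φ) h, hφ, hr']⟩

end pair

end Cfsg.Agent.H101.PQ.PairChar
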